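import Cfsg.Prelude.Def_Involutions
import Cfsg.Agent.DicksonPSL2.BinaryCriterion

/-!
# Binary coset actions with one class of involutions

In such an action commuting involutions fix the same points.  Hence the stabiliser of the fixed
point set of an involution is strongly embedded.
-/

set_option autoImplicit false
set_option linter.style.haveILetI false
set_option linter.unusedSectionVars false

namespace CfsgLib.BinaryOneClass

open CfsgLib.DicksonPSL2 CfsgLib.DicksonPSL2.Binary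
open scoped Pointwise

universe u

variable {X : Type u} [Group X]

theorem orderOf_conj' (g s : X) : orderOf (g * s * g⁻¹) = orderOf s := by
  simpa using (MulAut.conj g).orderOf_eq s

theorem smul_coset_of_mem {H P : Subgroup X} {s : Set X} (hPe : P = ⨅ g ∈ s, conjS g H) {y a : X}
    (hy : y ∈ P) (ha : a ∈ s) : y • (a : X ⧸ H) = (a : X ⧸ H) := by
  rw [smul_coset_eq_iff]
  rw [hPe] at hy
  simp only [Subgroup.mem_iInf] at hy
  exact hy a ha

/-- Three intersections of stabilisers: a product `x = q r` is already realised inside `(P ⊓ Q) R`. -/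
theorem criterion [Finite X] {H P Q R : Subgroup X} (hb : IsBin H) (hP : IsInt H P) (hQ : IsInt H Q)
    (hR : IsInt H R) {x q r : X} (hx : x ∈ P) (hq : q ∈ Q) (hr : r ∈ R) (he : x = q * r) :
    ∃ g, g ∈ P ∧ g ∈ Q ∧ g⁻¹ * x ∈ R := by
  classical
  obtain ⟨sP, ⟨p₀, hp₀⟩, hPe⟩ := hP
  obtain ⟨sQ, ⟨q₀, hq₀⟩, hQe⟩ := hQ
  obtain ⟨sR, -, hRe⟩ := hR
  let pt : (sP ⊕ sQ) ⊕ sR → X := Sum.elim (Sum.elim Subtype.val Subtype.val) Subtype.val
  let mv : (sP ⊕ sQ) ⊕ sR → X := Sum.elim (fun _ => 1) (fun _ => x)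
  have : Fintype ((sP ⊕ sQ) ⊕ sR) := Fintype.ofFinite _
  set e := (Fintype.equivFin ((sP ⊕ sQ) ⊕ sR)).symm with hedef
  have key : ∀ u v : (sP ⊕ sQ) ⊕ sR, ∃ g : X,
      g • (pt u : X ⧸ H) = ((mv u * pt u : X) : X ⧸ H) ∧
      g • (pt v : X ⧸ H) = ((mv v * pt v : X) : X ⧸ H) := by
    have h1 : ∀ (a : X), (1 : X) • (a : X ⧸ H) = ((1 * a : X) : X ⧸ H) := fun a => rfl
    have hxP : ∀ a ∈ sP, x • (a : X ⧸ H) = ((1 * a : X) : X ⧸ H) := fun a ha => by
      rw [one_mul]; exact smul_coset_of_mem hPe hx ha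
    have hqQ : ∀ a ∈ sQ, q • (a : X ⧸ H) = ((1 * a : X) : X ⧸ H) := fun a ha => by
      rw [one_mul]; exact smul_coset_of_mem hQe hq ha
    have hqR : ∀ a ∈ sR, q • (a : X ⧸ H) = ((x * a : X) : X ⧸ H) := fun a ha => by
      rw [← smul_coset x a, he, mul_smul, smul_coset_of_mem hRe hr ha]
    rintro ((⟨a, ha⟩ | ⟨a, ha⟩) | ⟨a, ha⟩) ((⟨b, hb⟩ | ⟨b, hb⟩) | ⟨b, hb⟩)
    · exact ⟨1, h1 a, h1 b⟩
    · exact ⟨1, h1 a, h1 b⟩
    · exact ⟨x, hxP a ha, rfl⟩
    · exact ⟨1, h1 a, h1 b⟩
    · exact ⟨1, h1 a, h1 b⟩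
    · exact ⟨q, hqQ a ha, hqR b hb⟩
    · exact ⟨x, rfl, hxP b hb⟩
    · exact ⟨q, hqR a ha, hqQ b hb⟩
    · exact ⟨x, rfl, rfl⟩
  obtain ⟨g, hg⟩ := hb _ (fun i => (pt (e i) : X ⧸ H)) (fun i => ((mv (e i) * pt (e i) : X) : X ⧸ H))
    (by
      rw [Nat.succ_le_iff, Fintype.one_lt_card_iff]
      exact ⟨Sum.inl (Sum.inl ⟨p₀, hp₀⟩), Sum.inl (Sum.inr ⟨q₀, hq₀⟩), by simp⟩)
    fun i j _ => key (e i) (e j)
  have hg' : ∀ u, g • (pt u : X ⧸ H) = ((mv u * pt u : X) : X ⧸ H) := fun u => by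
    simpa using hg (e.symm u)
  refine ⟨g, ?_, ?_, ?_⟩
  · rw [hPe]; simp only [Subgroup.mem_iInf]
    intro a ha
    exact (smul_coset_eq_iff g a).1 (by simpa [pt, mv] using hg' (Sum.inl (Sum.inl ⟨a, ha⟩)))
  · rw [hQe]; simp only [Subgroup.mem_iInf]
    intro a ha
    exact (smul_coset_eq_iff g a).1 (by simpa [pt, mv] using hg' (Sum.inl (Sum.inr ⟨a, ha⟩)))
  · rw [hRe]; simp only [Subgroup.mem_iInf]
    intro a ha
    refine (smul_coset_eq_iff _ a).1 ?_
    rw [mul_smul, inv_smul_eq_iff]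
    exact (hg' (Sum.inr ⟨a, ha⟩)).symm

/-- The same with trivially meeting `P` and `Q`. -/
theorem criterion_bot [Finite X] {H P Q R : Subgroup X} (hb : IsBin H) (hP : IsInt H P)
    (hQ : IsInt H Q) (hR : IsInt H R) (hPQ : ∀ g, g ∈ P → g ∈ Q → g = 1) {x q r : X} (hx : x ∈ P)
    (hq : q ∈ Q) (hr : r ∈ R) (he : x = q * r) : x ∈ R := by
  obtain ⟨g, hgP, hgQ, hg⟩ := criterion hb hP hQ hR hx hq hr he
  rwa [hPQ g hgP hgQ, inv_one, one_mul] at hg

/-- A subgroup of involutions which absorbs the involutions commuting with its elements. -/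
theorem isBin_of_absorbing {Z : Subgroup X} (hsq : ∀ z ∈ Z, z * z = 1)
    (habs : ∀ z ∈ Z, z ≠ 1 → ∀ y, y * y = 1 → Commute y z → y ∈ Z) : IsBin Z := by
  have sq : ∀ a z, z ∈ conjS a Z → z * z = 1 := by
    intro a z hz
    calc z * z = a * ((a⁻¹ * z * a) * (a⁻¹ * z * a)) * a⁻¹ := by group
      _ = 1 := by rw [hsq _ (mem_conjS.1 hz)]; group
  refine isBin_of_triangleFree (fun g x hx hxg hx1 => ?_) fun x hx hx1 a b y hy hxy => ?_
  · have key : ∀ (g x : X), x ∈ Z → x ∈ conjS g Z → x ≠ 1 → conjS g Z ≤ Z := by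
      intro g x hx hxg hx1 y hy
      refine habs x hx hx1 y (sq g y hy) ?_
      have h := sq g _ (mul_mem hy hxg)
      calc y * x = (x * x) * (y * x) * (y * y) := by rw [sq g x hxg, sq g y hy, one_mul, mul_one]
        _ = x * (x * y * (x * y)) * y := by group
        _ = x * y := by rw [sq g _ (mul_mem hxg hy), mul_one]
    refine le_antisymm (key g x hx hxg hx1) fun y hy => ?_
    rw [mem_conjS]
    have hx' : g⁻¹ * x * g ∈ Z := mem_conjS.1 hxg
    refine key g⁻¹ (g⁻¹ * x * g) hx' (mem_conjS.2 (by simpa [mul_assoc] using hx)) ?_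
      (mem_conjS.2 (by simpa [mul_assoc] using hy))
    intro e
    exact hx1 (by simpa [mul_assoc] using congrArg (fun z => g * z * g⁻¹) e)
  · refine habs x hx hx1 y (sq a y hy) ?_
    calc y * x = (x * x) * (y * x) * (y * y) := by rw [hsq x hx, sq a y hy, one_mul, mul_one]
      _ = x * (x * y * (x * y)) * y := by group
      _ = x * y := by rw [sq b _ hxy, mul_one]

section OneClass

variable {H : Subgroup X}

/-- The fixed points of an element. -/
def fixSet (H : Subgroup X) (t : X) : Set (X ⧸ H) := {p | t • p = p}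

theorem mem_fixSet {t : X} {p : X ⧸ H} : p ∈ fixSet H t ↔ t • p = p := Iff.rfl

theorem fixSet_conj (g t : X) : fixSet H (g * t * g⁻¹) = g • fixSet H t := by
  ext p
  rw [Set.mem_smul_set_iff_inv_smul_mem, mem_fixSet, mem_fixSet, mul_smul, mul_smul]
  exact ⟨fun h => by rw [← inv_smul_smul g (t • g⁻¹ • p), h], fun h => by rw [h, smul_inv_smul]⟩

/-- An intersection of the stabilisers of the fixed points of `t`. -/
def fixInt (H : Subgroup X) (t : X) : Subgroup X := ⨅ a ∈ {a : X | t • (a : X ⧸ H) = a}, conjS a H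

theorem mem_fixInt {t g : X} : g ∈ fixInt H t ↔ ∀ p ∈ fixSet H t, g • p = p := by
  simp only [fixInt, Subgroup.mem_iInf, Set.mem_ofPred_eq, ← smul_coset_eq_iff]
  constructor
  · intro h p hp
    obtain ⟨a, rfl⟩ := QuotientGroup.mk_surjective p
    exact h a hp
  · exact fun h a ha => h _ ha

variable [Finite X]

/-- The hypotheses on the action. -/
structure Setup (H : Subgroup X) : Prop where
  bin : IsBin H
  one : ∀ s t : X, orderOf s = 2 → orderOf t = 2 → IsConj s t
  invol : ∃ t ∈ H, orderOf t = 2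

theorem Setup.fix_nonempty (S : Setup H) {t : X} (ht : orderOf t = 2) : (fixSet H t).Nonempty := by
  obtain ⟨z, hz, hzo⟩ := S.invol
  obtain ⟨g, hg⟩ := isConj_iff.1 (S.one z t hzo ht)
  refine ⟨(g : X ⧸ H), ?_⟩
  rw [mem_fixSet, smul_coset_eq_iff, ← hg, mem_conjS]
  simpa [mul_assoc] using hz

theorem Setup.isInt_fixInt (S : Setup H) {t : X} (ht : orderOf t = 2) : IsInt H (fixInt H t) := by
  obtain ⟨p, hp⟩ := S.fix_nonempty ht
  obtain ⟨a, rfl⟩ := QuotientGroup.mk_surjective p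
  exact ⟨_, ⟨a, hp⟩, rfl⟩

theorem Setup.fix_eq_of_subset (S : Setup H) {s t : X} (hs : orderOf s = 2) (ht : orderOf t = 2)
    (h : fixSet H s ⊆ fixSet H t) : fixSet H s = fixSet H t := by
  refine Set.eq_of_subset_of_ncard_le h ?_ (Set.toFinite _)
  obtain ⟨g, hg⟩ := isConj_iff.1 (S.one s t hs ht)
  rw [← hg, fixSet_conj, Set.ncard_smul_set]

/-- Commuting involutions fix the same points. -/
theorem Setup.fix_eq_of_commute (S : Setup H) {s t : X} (hs : orderOf s = 2) (ht : orderOf t = 2)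
    (hst : Commute s t) : fixSet H s = fixSet H t := by
  rcases eq_or_ne s t with rfl | hne
  · rfl
  have hs2 : s * s = 1 := by rw [← pow_two, ← hs, pow_orderOf_eq_one]
  have ht2 : t * t = 1 := by rw [← pow_two, ← ht, pow_orderOf_eq_one]
  set u := s * t with hudef
  have hu : orderOf u = 2 := by
    haveI := Fact.mk Nat.prime_two
    refine orderOf_eq_prime ?_ ?_
    · rw [pow_two, hudef, ← mul_assoc, mul_assoc s t s, ← hst.eq, ← mul_assoc, hs2, one_mul, ht2]
    · intro e
      apply hne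
      calc s = s * (t * t) := by rw [ht2, mul_one]
        _ = (s * t) * t := by rw [mul_assoc]
        _ = t := by rw [← hudef, e, one_mul]
  obtain ⟨g, hgs, hgt, hgu⟩ := criterion S.bin (S.isInt_fixInt hs) (S.isInt_fixInt ht)
    (S.isInt_fixInt hu) (mem_fixInt.2 fun _ hp => hp) (mem_fixInt.2 fun _ hp => hp)
    (mem_fixInt.2 fun _ hp => hp)
    (show s = t * u by rw [hudef, ← mul_assoc, ← hst.eq, mul_assoc, ht2, mul_one])
  rw [mem_fixInt] at hgs hgt hgu
  have hgu' : ∀ p ∈ fixSet H u, g • p = s • p := fun p hp => by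
    conv_lhs => rw [← hgu p hp, smul_smul, mul_inv_cancel_left]
  by_cases hall : fixSet H u ⊆ fixSet H s
  · have e := S.fix_eq_of_subset hu hs hall
    refine S.fix_eq_of_subset hs ht fun p hp => ?_
    have hp' : u • p = p := by rw [← mem_fixSet, e]; exact hp
    rw [mem_fixSet, show t = s * u by rw [hudef, ← mul_assoc, hs2, one_mul], mul_smul, hp', hp]
  obtain ⟨p, hp, hps⟩ := Set.not_subset.1 hall
  rw [mem_fixSet] at hps
  -- `g` has even order
  have hsp : s • p ∈ fixSet H u := by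
    have hp' : u • p = p := hp
    rw [mem_fixSet, smul_smul, show u * s = s * u by
      rw [hudef, mul_assoc, ← hst.eq, ← mul_assoc], mul_smul, hp']
  have hg2 : g ^ 2 • p = p := by
    rw [pow_two, mul_smul, hgu' p hp, hgu' _ hsp, smul_smul, hs2, one_smul]
  have hev : Even (orderOf g) := by
    by_contra ho
    obtain ⟨k, hk⟩ := Nat.not_even_iff_odd.1 ho
    have h1 : g ^ (2 * k + 1) = 1 := by rw [← hk, pow_orderOf_eq_one]
    apply hps
    rw [← hgu' p hp]
    have hk' : ∀ n : ℕ, (g ^ 2) ^ n • p = p := fun n => by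
      induction n with
      | zero => rw [pow_zero, one_smul]
      | succ n ih => rw [pow_succ, mul_smul, hg2, ih]
    calc g • p = g • (g ^ 2) ^ k • p := by rw [hk' k]
      _ = p := by rw [smul_smul, ← pow_mul, ← pow_succ', h1, one_smul]
  obtain ⟨m, hm⟩ := hev
  set y := g ^ m with hy
  have hyo : orderOf y = 2 := by
    haveI := Fact.mk Nat.prime_two
    have hg0 := orderOf_pos g
    refine orderOf_eq_prime ?_ ?_
    · rw [hy, ← pow_mul, mul_two, ← hm, pow_orderOf_eq_one]
    · intro e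
      have := orderOf_le_of_pow_eq_one (by omega) e
      omega
  have hfix : ∀ (n : ℕ) (p : X ⧸ H), g • p = p → g ^ n • p = p := fun n p h => by
    induction n with
    | zero => rw [pow_zero, one_smul]
    | succ n ih => rw [pow_succ, mul_smul, h, ih]
  have h1 := S.fix_eq_of_subset hs hyo fun p hp => hfix m p (hgs p hp)
  have h2 := S.fix_eq_of_subset ht hyo fun p hp => hfix m p (hgt p hp)
  rw [h1, h2]

theorem Setup.mem_of_commute (S : Setup H) {s t : X} (hs : orderOf s = 2) (ht : orderOf t = 2)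
    (hst : Commute s t) (hsH : s ∈ H) : t ∈ H := by
  have h : ((1 : X) : X ⧸ H) ∈ fixSet H s := by
    rw [mem_fixSet, smul_coset_eq_iff, conjS_one]; exact hsH
  rw [S.fix_eq_of_commute hs ht hst, mem_fixSet, smul_coset_eq_iff, conjS_one] at h
  exact h

/-- The stabiliser of a fixed point set is strongly embedded. -/
theorem Setup.exists_stronglyEmbedded (S : Setup H) [IsSimpleGroup X] (hH : H ≠ ⊤) :
    ∃ M : Subgroup X, Cfsg.IsStronglyEmbedded M := by
  haveI := Fact.mk Nat.prime_two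
  obtain ⟨z, hzH, hz⟩ := S.invol
  have hz1 : z ≠ 1 := fun e => by rw [e, orderOf_one] at hz; omega
  -- a central involution of a Sylow subgroup
  obtain ⟨T, hT⟩ := (IsPGroup.of_card (p := 2) (n := 1)
    (by rw [Nat.card_zpowers, hz, pow_one] : Nat.card (Subgroup.zpowers z) = 2 ^ 1)).exists_le_sylow
  have hzT : z ∈ (T : Subgroup X) := hT (Subgroup.mem_zpowers z)
  haveI : Nontrivial (T : Subgroup X) :=
    ⟨⟨⟨z, hzT⟩, 1, fun e => hz1 (congrArg Subtype.val e)⟩⟩
  haveI := T.2.center_nontrivial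
  obtain ⟨c, hc⟩ := exists_prime_orderOf_dvd_card' (G := Subgroup.center (T : Subgroup X)) 2 (by
    obtain ⟨k, hk⟩ := IsPGroup.iff_card.1 (T.2.to_subgroup (Subgroup.center (T : Subgroup X)))
    have := Finite.one_lt_card (α := Subgroup.center (T : Subgroup X))
    rw [hk] at this ⊢
    rcases k with _ | k
    · simp at this
    · exact dvd_pow_self 2 (by omega))
  rw [← Subgroup.orderOf_coe, ← Subgroup.orderOf_coe] at hc
  set c' : X := ((c : (T : Subgroup X)) : X)
  have hcT : ∀ x ∈ (T : Subgroup X), Commute x c' := fun x hx =>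
    congrArg Subtype.val (Subgroup.mem_center_iff.1 c.2 ⟨x, hx⟩)
  set M : Subgroup X := MulAction.stabilizer X (fixSet H c') with hM
  have hmemM : ∀ g, g ∈ M ↔ g • fixSet H c' = fixSet H c' := fun g => MulAction.mem_stabilizer_iff
  have hTM : (T : Subgroup X) ≤ M := fun x hx => by
    rw [hmemM, ← fixSet_conj, (hcT x hx).eq, mul_inv_cancel_right]
  have key : ∀ s ∈ M, orderOf s = 2 → fixSet H s = fixSet H c' := by
    intro s hs hso
    obtain ⟨U, hU⟩ := (IsPGroup.of_card (p := 2) (n := 1)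
      (by rw [Nat.card_zpowers, Subgroup.orderOf_mk, hso, pow_one] :
        Nat.card (Subgroup.zpowers (⟨s, hs⟩ : M)) = 2 ^ 1)).exists_le_sylow
    obtain ⟨g, hg⟩ := MulAction.exists_smul_eq M U (T.subtype hTM)
    have hmem : (g : X) * s * (g : X)⁻¹ ∈ (T : Subgroup X) := by
      have : g * (⟨s, hs⟩ : M) * g⁻¹ ∈ (g • U : Sylow 2 M) := by
        show _ ∈ ((g • U : Sylow 2 M) : Subgroup M)
        rw [Sylow.coe_subgroup_smul]
        exact ⟨_, hU (Subgroup.mem_zpowers _), rfl⟩
      rw [hg] at this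
      exact this
    have h := S.fix_eq_of_commute (s := (g : X) * s * (g : X)⁻¹) (by rw [orderOf_conj', hso]) hc
      (hcT _ hmem)
    rw [fixSet_conj] at h
    have hg' := (hmemM (g : X)).1 g.2
    exact (MulAction.injective (g : X)) (h.trans hg'.symm)
  refine ⟨M, ?_, ?_, fun g hg => ?_⟩
  · intro htop
    obtain ⟨p, hp⟩ := S.fix_nonempty hc
    have hall : ∀ q : X ⧸ H, c' • q = q := by
      intro q
      obtain ⟨g, rfl⟩ := MulAction.exists_smul_eq X p q
      have := (hmemM g).1 (htop ▸ Subgroup.mem_top g)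
      rw [← mem_fixSet, ← this]
      exact Set.smul_mem_smul_set hp
    have hcore : c' ∈ H.normalCore := fun b => by
      have h := hall ((b⁻¹ : X) : X ⧸ H)
      rw [smul_coset_eq_iff, mem_conjS, inv_inv] at h
      exact h
    rcases IsSimpleGroup.eq_bot_or_eq_top_of_normal _ (Subgroup.normalCore_normal H) with h | h
    · rw [h, Subgroup.mem_bot] at hcore
      rw [hcore, orderOf_one] at hc
      omega
    · exact hH (top_le_iff.1 (h ▸ Subgroup.normalCore_le H))
  · rw [even_iff_two_dvd, ← hz]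
    exact Subgroup.orderOf_dvd_natCard _ (hTM hzT)
  · rw [← Nat.not_even_iff_odd]
    intro hev
    obtain ⟨⟨s, hs⟩, hso⟩ := exists_prime_orderOf_dvd_card' 2 (even_iff_two_dvd.1 hev)
    rw [Subgroup.orderOf_mk] at hso
    obtain ⟨hs1, r, hr, rfl⟩ := hs
    simp only [MulEquiv.coe_toMonoidHom, MulAut.conj_apply] at hs1 hso
    rw [orderOf_conj'] at hso
    have h1 := key _ hs1 (by rw [orderOf_conj', hso])
    rw [fixSet_conj, key r hr hso] at h1
    exact hg ((hmemM g).2 h1)

end OneClass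

end CfsgLib.BinaryOneClass
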