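import Cfsg.Agent.BinaryOneClass.UnitalMain
import Cfsg.Agent.BenderUse.Split
import Cfsg.Agent.CAGroups.Simple
import Cfsg.Agent.S5736

/-!
# Binary coset actions of simple groups with one class of involutions, stabilisers of even order

`iff_of_splitHyp` is the classification, given `BenderUse.SplitHyp`.
-/

set_option autoImplicit false
set_option linter.style.haveILetI false
set_option linter.unusedSectionVars false

namespace CfsgLib.BinaryOneClass

open CfsgLib.DicksonPSL2 CfsgLib.DicksonPSL2.Binary CfsgLib.SuzukiBinary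

universe u

variable {X : Type u} [Group X] [Finite X]

theorem map_symm_map {Y : Type*} [Group Y] (e : X ≃* Y) (H : Subgroup X) :
    (H.map e.toMonoidHom).map e.symm.toMonoidHom = H := by
  rw [Subgroup.map_map]; ext; simp

theorem map_ne_top {Y : Type*} [Group Y] (e : X ≃* Y) {H : Subgroup X} (hne : H ≠ ⊤) :
    H.map e.toMonoidHom ≠ ⊤ := fun h => hne (by
  rw [← map_symm_map e H, h, Subgroup.map_top_of_surjective _ e.symm.surjective])

/-- The case of `PSL_2(2^a)`. -/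
theorem isBin_iff_psl {F : Type*} [Field F] [Fintype F] {a : ℕ} (ha : 2 ≤ a)
    (hF : Fintype.card F = 2 ^ a) (e : X ≃* Matrix.ProjectiveSpecialLinearGroup (Fin 2) F)
    {H : Subgroup X} (hne : H ≠ ⊤) (heven : Even (Nat.card H)) :
    IsBin H ↔ ∃ P : Sylow 2 X, H = P := by
  haveI := Fact.mk Nat.prime_two
  have h4 : 4 ≤ Fintype.card F := hF ▸ (Nat.pow_le_pow_right (show 0 < 2 by norm_num) ha :)
  have h5 : Fintype.card F ≠ 5 := by
    rw [hF, show a = (a - 1) + 1 by omega, pow_succ]; omega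
  have key := Cfsg.Agent.S5736.result h4 h5 (H.map e.toMonoidHom) (map_ne_top e hne)
  have hcard : Nat.card (H.map e.toMonoidHom) = Nat.card H :=
    (Nat.card_congr (H.equivMapOfInjective _ e.injective).toEquiv).symm
  constructor
  · intro hb
    rcases key.1 (isBin_map e hb) with h | ⟨-, P, hP⟩ | ⟨-, h3⟩
    · rw [h, Subgroup.card_bot] at hcard
      exact absurd (hcard ▸ heven) (by decide)
    · refine ⟨P.mapSurjective (f := e.symm.toMonoidHom) e.symm.surjective, ?_⟩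
      rw [← map_symm_map e H, hP]
      rfl
    · rw [hcard] at h3
      exact absurd (h3 ▸ heven) (by decide)
  · rintro ⟨P, hP⟩
    have h := isBin_map e.symm (key.2 (Or.inr (Or.inl ⟨⟨a, hF⟩,
      P.mapSurjective (f := e.toMonoidHom) e.surjective, by rw [hP]; rfl⟩)))
    rwa [map_symm_map] at h

/-- The case of a Suzuki group. -/
theorem isBin_iff_sz (hX : Cfsg.Lie.IsoSuzuki X) {H : Subgroup X} (hne : H ≠ ⊤)
    (heven : Even (Nat.card H)) :
    IsBin H ↔ ∃ P : Sylow 2 X,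
      H = (Subgroup.center (P : Subgroup X)).map (P : Subgroup X).subtype := by
  obtain ⟨F, fF, fT, m, hm, hF, ⟨e⟩⟩ := hX
  have hS : CfsgLib.Suzuki.SzField F m := ⟨hm, hF⟩
  rw [isBin_iff_of_equiv hS ((CfsgLib.Suzuki.lieSzEquiv hS).trans e.symm) hne]
  refine or_iff_right fun h => ?_
  rw [h, Subgroup.card_bot] at heven
  exact absurd heven (by decide)

/-- The two group-theoretic forms of `SL_2(2^a)`. -/
theorem exists_sl_iff_psl : (∃ (F : Type) (_ : Field F) (_ : Fintype F) (a : ℕ), 2 ≤ a ∧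
      Fintype.card F = 2 ^ a ∧ Nonempty (X ≃* Matrix.SpecialLinearGroup (Fin 2) F)) ↔
    ∃ (F : Type) (_ : Field F) (_ : Fintype F), (∃ a : ℕ, 2 ≤ a ∧ Fintype.card F = 2 ^ a) ∧
      Nonempty (X ≃* Matrix.ProjectiveSpecialLinearGroup (Fin 2) F) := by
  have hch : ∀ (F : Type) [Field F] [Fintype F] (a : ℕ), 2 ≤ a → Fintype.card F = 2 ^ a →
      CharP F 2 := fun F _ _ a ha hF => ringChar.of_eq (FiniteField.even_card_iff_char_two.2 (by
    rw [hF, show a = (a - 1) + 1 by omega, pow_succ]; omega))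
  constructor
  · rintro ⟨F, fF, fT, a, ha, hF, ⟨e⟩⟩
    haveI := hch F a ha hF
    exact ⟨F, fF, fT, ⟨a, ha, hF⟩, ⟨e.trans CfsgLib.CAGroups.sl2EquivPSL2⟩⟩
  · rintro ⟨F, fF, fT, ⟨a, ha, hF⟩, ⟨e⟩⟩
    haveI := hch F a ha hF
    exact ⟨F, fF, fT, a, ha, hF, ⟨e.trans CfsgLib.CAGroups.sl2EquivPSL2.symm⟩⟩

/-- A simple group with an involution in a proper subgroup is not abelian. -/
theorem nonabelian [IsSimpleGroup X] {H : Subgroup X} (hne : H ≠ ⊤)
    (heven : Even (Nat.card H)) : ∃ a b : X, a * b ≠ b * a := by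
  by_contra! hc
  have hn : H.Normal := ⟨fun n hn g => by rwa [hc g n, mul_inv_cancel_right]⟩
  rcases hn.eq_bot_or_eq_top with h | h
  · rw [h, Subgroup.card_bot] at heven
    exact absurd heven (by decide)
  · exact hne h

/-- The classification, given Bender's theorem in the form `SplitHyp`. -/
theorem iff_of_splitHyp (hS : CfsgLib.BenderUse.SplitHyp.{u}) [IsSimpleGroup X]
    (hone : ∀ s t : X, orderOf s = 2 → orderOf t = 2 → IsConj s t)
    (H : Subgroup X) (hne : H ≠ ⊤) (heven : Even (Nat.card H)) :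
    IsBin H ↔
      (((∃ (F : Type) (_ : Field F) (_ : Fintype F) (a : ℕ), 2 ≤ a ∧ Fintype.card F = 2 ^ a ∧
          Nonempty (X ≃* Matrix.SpecialLinearGroup (Fin 2) F)) ∧
        ∃ P : Sylow 2 X, H = P) ∨
      (Cfsg.Lie.IsoSuzuki X ∧
        ∃ P : Sylow 2 X, H = (Subgroup.center (P : Subgroup X)).map (P : Subgroup X).subtype) ∨
      ((∃ (F : Type) (_ : Field F) (_ : Fintype F) (a : ℕ), 2 ≤ a ∧
          Fintype.card F = (2 ^ a) ^ 2 ∧ Nonempty (X ≃* Cfsg.PSU 3 F (2 ^ a))) ∧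
        ∃ P : Sylow 2 X, H = (Subgroup.center (P : Subgroup X)).map (P : Subgroup X).subtype)) := by
  constructor
  · intro hb
    obtain ⟨⟨t, ht⟩, hto⟩ := exists_prime_orderOf_dvd_card' (G := H) 2
      (even_iff_two_dvd.1 heven)
    rw [Subgroup.orderOf_mk] at hto
    have S : Setup H := ⟨hb, hone, t, ht, hto⟩
    obtain ⟨M, hM⟩ := S.exists_stronglyEmbedded hne
    rcases CfsgLib.BenderUse.families_of_split hS (nonabelian hne heven) hM with
      ⟨F, fF, fT, ⟨a, ha, hF⟩, ⟨e⟩⟩ | hX | ⟨F, fF, fT, a, ha, hF, ⟨e⟩⟩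
    · exact Or.inl ⟨exists_sl_iff_psl.2 ⟨F, fF, fT, ⟨a, ha, hF⟩, ⟨e⟩⟩,
        (isBin_iff_psl ha hF e hne heven).1 hb⟩
    · exact Or.inr (Or.inl ⟨hX, (isBin_iff_sz hX hne heven).1 hb⟩)
    · exact Or.inr (Or.inr ⟨⟨F, fF, fT, a, ha, hF, ⟨e⟩⟩,
        (isBin_iff_psu ha hF e hone hne heven).1 hb⟩)
  · rintro (⟨h, hP⟩ | ⟨hX, hP⟩ | ⟨⟨F, fF, fT, a, ha, hF, ⟨e⟩⟩, hP⟩)
    · obtain ⟨F, fF, fT, ⟨a, ha, hF⟩, ⟨e⟩⟩ := exists_sl_iff_psl.1 h
      exact (isBin_iff_psl ha hF e hne heven).2 hP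
    · exact (isBin_iff_sz hX hne heven).2 hP
    · exact (isBin_iff_psu ha hF e hone hne heven).2 hP

end CfsgLib.BinaryOneClass
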