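import Cfsg.Agent.SuzukiTheorem.UnitalModel

/-!
# `PSU_3(q)`, `q` even, on the unital: elements in coordinates
-/

set_option autoImplicit false
set_option linter.style.haveILetI false
set_option linter.unusedSectionVars false

namespace CfsgLib.BinaryOneClass.Unit

open Matrix CfsgLib.RepBounds.Unit CfsgLib.SUThreeUnipotent CfsgLib.SUThreePresentation
  CfsgLib.SuzukiTheorem.Unital

variable {F : Type*} [Field F] [Fintype F] {C : ConjField F}

variable (C) in
/-- The vector with coordinates `a, y, z`. -/
noncomputable abbrev vv (a y z : F) : Fin 3 → F := (frame C).vec a y z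

theorem vv_add (a y z a' y' z' : F) :
    vv C a y z + vv C a' y' z' = vv C (a + a') (y + y') (z + z') := (frame C).add_vec a y z a' y' z'

theorem vv_smul (r a y z : F) : r • vv C a y z = vv C (r * a) (r * y) (r * z) :=
  (frame C).smul_vec r a y z

theorem pv_none : pv C none = vv C 1 0 0 := rfl

theorem pv_some (p : Pt C) : pv C (some p) = vv C p.1.2 p.1.1 1 := rfl

theorem pv_orig : pv C (some (orig C)) = vv C 0 0 1 := rfl

theorem ext_vv {g g' : suG C (Fin 3)} (h : ∀ a y z, app C g (vv C a y z) = app C g' (vv C a y z)) :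
    g = g' := ext_vec (frame C) h

/-- The product of the eigenvalues is one. -/
theorem prod_eq_one (k : suG C (Fin 3)) {v : Fin 3 → Fin 3 → F} {c : Fin 3 → F}
    (hv : LinearIndependent F v) (h : ∀ i, app C k (v i) = c i • v i) : ∏ i, c i = 1 := by
  set A : Matrix (Fin 3) (Fin 3) F := Matrix.of v
  have hA : IsUnit A.det := by
    rw [← Matrix.isUnit_iff_isUnit_det, ← Matrix.linearIndependent_rows_iff_isUnit]
    exact hv
  have e : A * k.1.1ᵀ = Matrix.diagonal c * A := by
    ext i j
    rw [Matrix.diagonal_mul, Matrix.mul_apply]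
    have := congrFun (h i) j
    simp only [app, Matrix.mulVec, dotProduct, Pi.smul_apply, smul_eq_mul] at this
    simp only [A, Matrix.of_apply, Matrix.transpose_apply]
    rw [← this]
    exact Finset.sum_congr rfl fun x _ => mul_comm _ _
  have e' := congrArg Matrix.det e
  rw [Matrix.det_mul, Matrix.det_mul, Matrix.det_transpose, Matrix.det_diagonal, k.1.2, mul_one] at e'
  exact mul_right_cancel₀ hA.ne_zero (by rw [one_mul, ← e'])

theorem linearIndependent_frame :
    LinearIndependent F ![vv C (1 : F) 0 0, vv C 0 1 0, vv C 0 0 1] := by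
  rw [Fintype.linearIndependent_iff]
  intro g hg
  simp only [Fin.sum_univ_three, Matrix.cons_val_zero, Matrix.cons_val_one, Matrix.cons_val_two,
    Matrix.head_cons, Matrix.tail_cons, vv_smul, vv_add, mul_one, mul_zero, add_zero, zero_add] at hg
  rw [show (0 : Fin 3 → F) = vv C 0 0 0 by
    rw [vv, Frame.vec]; simp] at hg
  obtain ⟨h0, h1, h2⟩ := vec_inj (frame C) hg
  intro i; fin_cases i <;> assumption

section Elements

variable (C) in
/-- The group: `PSU_3(q)` on the unital. -/
noncomputable abbrev G : Subgroup (Equiv.Perm (Option (Pt C))) := (rho C).range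

/-- The image of an element of `SU_3`. -/
noncomputable def el : suG C (Fin 3) →* G C := (rho C).rangeRestrict

theorem el_surjective : Function.Surjective (el (C := C)) := (rho C).rangeRestrict_surjective

/-- The image of a point. -/
noncomputable def img (g : G C) (x : Option (Pt C)) : Option (Pt C) := g.1 x

theorem img_mul (g h : G C) (x : Option (Pt C)) : img (g * h) x = img g (img h x) := rfl

theorem img_one (x : Option (Pt C)) : img (1 : G C) x = x := rfl

theorem img_inv_img (g : G C) (x : Option (Pt C)) : img g⁻¹ (img g x) = x := by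
  rw [← img_mul, inv_mul_cancel, img_one]

theorem img_injective (g : G C) : Function.Injective (img g) := g.1.injective

theorem ext_img {g h : G C} (e : ∀ x, img g x = img h x) : g = h := Subtype.ext (Equiv.ext e)

theorem img_el (k : suG C (Fin 3)) (x : Option (Pt C)) :
    img (el k) x = ofVec C (app C k (pv C x)) := rfl

theorem img_el_eq {k : suG C (Fin 3)} {x y : Option (Pt C)} {r : F} (hr : r ≠ 0)
    (h : app C k (pv C x) = r • pv C y) : img (el k) x = y := by
  rw [img_el, h, ofVec_smul C hr, ofVec_pv]

theorem exists_line (k : suG C (Fin 3)) (x : Option (Pt C)) :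
    ∃ r : F, r ≠ 0 ∧ app C k (pv C x) = r • pv C (img (el k) x) :=
  exists_smul_pv C (v := app C k (pv C x)) (by rw [herm_app, pv_isotropic]) (fun h =>
    pv_ne_zero C x (by
      have h' := app_inv_app C k (pv C x)
      rw [h] at h'
      rw [← h']
      exact Matrix.mulVec_zero _))

theorem app_ptEl (p : Pt C) (a y z : F) : app C (rootEl C p) (vv C a y z) =
    vv C (a + p.1.2 * z - C.σ p.1.1 * y) (y + p.1.1 * z) z := app_rootEl C p a y z

variable (C) in
/-- A torus element. -/
noncomputable def torEl (l : Fˣ) : suG C (Fin 3) :=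
  ((frame C).exists_monomial (d := (l : F)) l.ne_zero).choose * flipEl C

theorem app_torEl (l : Fˣ) (a y z : F) : app C (torEl C l) (vv C a y z) =
    vv C ((l : F) * a) (C.σ l / l * y) ((C.σ l)⁻¹ * z) := by
  obtain ⟨he, hx, hf⟩ := ((frame C).exists_monomial (d := (l : F)) l.ne_zero).choose_spec
  rw [torEl, app_mul, app_flipEl, app_lin, he, hx, hf, vv, Frame.vec]
  module

/-- A translation. -/
noncomputable def tr (p : Pt C) : G C := el (rootEl C p)

/-- A torus element. -/
noncomputable def tor (l : Fˣ) : G C := el (torEl C l)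

variable (C) in
/-- The flip. -/
noncomputable def fl : G C := el (flipEl C)

theorem img_tr_none (p : Pt C) : img (tr p) none = none := transl_none C p

theorem img_tr_some (p q : Pt C) : img (tr p) (some q) = some (ptMul C p q) := transl_some C p q

theorem ptMul_orig (p : Pt C) : ptMul C p (orig C) = p := by
  refine Subtype.ext (Prod.ext ?_ ?_) <;> simp [ptMul, orig]

theorem img_tr_orig (p : Pt C) : img (tr p) (some (orig C)) = some p := by
  rw [img_tr_some, ptMul_orig]

theorem img_fl_none : img (fl C) none = some (orig C) := tau_none C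

theorem img_fl_orig : img (fl C) (some (orig C)) = none := tau_orig C

theorem tr_mul (p p' : Pt C) : tr p * tr p' = tr (ptMul C p p') := by
  rw [tr, tr, tr, ← map_mul]
  congr 1
  refine ext_vv fun a y z => ?_
  rw [app_mul, app_ptEl, app_ptEl, app_ptEl]
  congr 1 <;> simp only [ptMul, map_add] <;> ring

theorem tr_injective : Function.Injective (tr (C := C)) := fun p q h => by
  have := congrArg (fun g => img g (some (orig C))) h
  simpa only [img_tr_orig, Option.some.injEq] using this

theorem tr_orig : tr (orig C) = 1 := by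
  rw [tr, show rootEl C (orig C) = 1 from ext_vv fun a y z => by
    rw [app_ptEl, app_one]; simp [orig], map_one]

theorem tor_mul (l l' : Fˣ) : tor (C := C) l * tor l' = tor (l * l') := by
  rw [tor, tor, tor, ← map_mul]
  congr 1
  refine ext_vv fun a y z => ?_
  rw [app_mul, app_torEl, app_torEl, app_torEl]
  congr 1 <;> simp only [Units.val_mul, map_mul, div_eq_mul_inv, mul_inv] <;> ring

theorem tor_one : tor (C := C) 1 = 1 := by
  have := tor_mul (C := C) 1 1
  rwa [one_mul, mul_eq_left] at this

theorem tor_pow (l : Fˣ) (n : ℕ) : tor (C := C) l ^ n = tor (l ^ n) := by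
  induction n with
  | zero => rw [pow_zero, pow_zero, tor_one]
  | succ n ih => rw [pow_succ, pow_succ, ih, tor_mul]

theorem tor_inv (l : Fˣ) : (tor (C := C) l)⁻¹ = tor l⁻¹ :=
  inv_eq_of_mul_eq_one_right (by rw [tor_mul, mul_inv_cancel, tor_one])

/-- The torus acts on the parameters. -/
def smulPt (l : Fˣ) (p : Pt C) : Pt C := ⟨(mu C l * p.1.1, nrm C l * p.1.2), p.2.smul l.ne_zero⟩

theorem tor_tr (l : Fˣ) (p : Pt C) : tor l * tr p = tr (smulPt l p) * tor l := by
  rw [tor, tr, tr, ← map_mul, ← map_mul]
  congr 1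
  refine ext_vv fun a y z => ?_
  have hl := l.ne_zero
  have hl' := sigma_ne (C := C) hl
  rw [app_mul, app_mul, app_torEl, app_ptEl, app_ptEl, app_torEl]
  congr 1
  · simp only [smulPt, mu, nrm, map_div₀, map_mul, C.invol]; field_simp
  · simp only [smulPt, mu]; field_simp

theorem img_tor_none (l : Fˣ) : img (tor (C := C) l) none = none :=
  img_el_eq l.ne_zero (by rw [pv_none, app_torEl, vv_smul]; simp)

theorem img_tor_orig (l : Fˣ) : img (tor (C := C) l) (some (orig C)) = some (orig C) :=
  img_el_eq (inv_ne_zero (sigma_ne (C := C) l.ne_zero)) (by rw [pv_orig, app_torEl, vv_smul]; simp)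

theorem img_tor_some (l : Fˣ) (p : Pt C) : img (tor l) (some p) = some (smulPt l p) := by
  conv_lhs => rw [← img_tr_orig p]
  rw [← img_mul, tor_tr, img_mul, img_tor_orig, img_tr_orig]

theorem smulPt_eq_self {l : Fˣ} {p : Pt C} (h : img (tor l) (some p) = some p) :
    mu C l * p.1.1 = p.1.1 ∧ nrm C l * p.1.2 = p.1.2 := by
  rw [img_tor_some, Option.some.injEq] at h
  exact ⟨congrArg (fun q : Pt C => q.1.1) h, congrArg (fun q : Pt C => q.1.2) h⟩

/-- Both parameters trivial: the torus element is trivial. -/
theorem tor_eq_one_of {l : Fˣ} (hm : mu C (l : F) = 1) (hn : nrm C (l : F) = 1) :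
    tor (C := C) l = 1 := ext_img fun x => by
  rw [img_one]
  rcases x with _ | p
  · exact img_tor_none l
  · rw [img_tor_some]
    congr 1
    refine Subtype.ext (Prod.ext ?_ ?_) <;> simp [smulPt, hm, hn]

/-- A fixed point outside the chord kills a torus element. -/
theorem tor_eq_one_of_fix {l : Fˣ} {p : Pt C} (hp : p.1.1 ≠ 0)
    (h : img (tor l) (some p) = some p) : tor (C := C) l = 1 := by
  obtain ⟨h1, h2⟩ := smulPt_eq_self h
  have hd : p.1.2 ≠ 0 := fun e => hp (Val.fst_eq_zero (C := C) (by simpa [e] using p.2))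
  exact tor_eq_one_of ((mul_eq_right₀ hp).1 h1) ((mul_eq_right₀ hd).1 h2)

/-- The two point stabiliser is the torus. -/
theorem exists_eq_tor {g : G C} (h0 : img g none = none)
    (h1 : img g (some (orig C)) = some (orig C)) : ∃ l, g = tor l := by
  obtain ⟨k, rfl⟩ := el_surjective g
  obtain ⟨α, hα, he⟩ := exists_line k none
  obtain ⟨γ, hγ, hf⟩ := exists_line k (some (orig C))
  rw [h0, pv_none, vv_smul, mul_one, mul_zero] at he
  rw [h1, pv_orig, vv_smul, mul_one, mul_zero] at hf
  obtain ⟨a, y, z, hm⟩ : ∃ a y z, app C k (vv C 0 1 0) = vv C a y z := ⟨_, _, _, vec_of _ _⟩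
  have hh : ∀ u v u' v' : Fin 3 → F, app C k u = u' → app C k v = v' →
      herm C u' v' = herm C u v := by
    rintro u v _ _ rfl rfl
    rw [herm_app]
  have hE : vv C α 0 0 = α • (frame C).e 0 := by rw [(frame C).vec_e, Frame.smul_vec]; simp
  have hF : vv C 0 0 γ = γ • (frame C).f 0 := by rw [(frame C).vec_f, Frame.smul_vec]; simp
  have hσα := sigma_ne (C := C) hα
  have hz : z = 0 := by
    have h := hh _ _ _ _ hm he
    rw [hE, show vv C 1 0 0 = (frame C).e 0 from ((frame C).vec_e).symm, herm_smul_right, ((frame C).herm_vec a y z).1,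
      ((frame C).herm_vec 0 1 0).1] at h
    exact (mul_eq_zero.1 h).resolve_left hσα
  have ha : a = 0 := by
    have h := hh _ _ _ _ hm hf
    rw [hF, show vv C 0 0 1 = (frame C).f 0 from ((frame C).vec_f).symm, herm_smul_right, ((frame C).herm_vec a y z).2.2,
      ((frame C).herm_vec 0 1 0).2.2] at h
    exact (mul_eq_zero.1 h).resolve_left (sigma_ne hγ)
  have hγα : C.σ α * γ = 1 := by
    have h := hh _ _ _ _ hf he
    rw [hE, show vv C 1 0 0 = (frame C).e 0 from ((frame C).vec_e).symm, herm_smul_right, ((frame C).herm_vec 0 0 γ).1,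
      ((frame C).herm_vec 0 0 1).1] at h
    exact h
  subst hz ha
  have hdet := prod_eq_one k (c := ![α, y, γ]) (linearIndependent_frame (C := C)) (fun i => by
    fin_cases i <;> simp [he, hm, hf, vv_smul])
  simp only [Fin.prod_univ_three, Matrix.cons_val_zero, Matrix.cons_val_one, Matrix.cons_val_two,
    Matrix.head_cons, Matrix.tail_cons] at hdet
  refine ⟨Units.mk0 α hα, ?_⟩
  rw [tor]
  congr 1
  refine ext_vv fun a y' z => ?_
  have hγe : γ = (C.σ α)⁻¹ := eq_inv_of_mul_eq_one_right hγα
  have hye : y = C.σ α / α := by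
    subst hγe
    field_simp at hdet ⊢
    linear_combination hdet
  rw [app_torEl, Units.val_mk0, ← hye, ← hγe,
    show vv C a y' z = a • vv C 1 0 0 + y' • vv C 0 1 0 + z • vv C 0 0 1 by
      simp [vv_smul, vv_add],
    app_add, app_add, app_smul, app_smul, app_smul, he, hm, hf]
  simp only [vv_smul, vv_add]
  congr 1 <;> ring

/-- The stabiliser of the point at infinity. -/
theorem exists_eq_tr_tor {g : G C} (h0 : img g none = none) : ∃ p l, g = tr p * tor l := by
  rcases h1 : img g (some (orig C)) with _ | p
  · exact absurd (img_injective g (h1.trans h0.symm)) (by simp)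
  · obtain ⟨l, hl⟩ := exists_eq_tor (g := (tr p)⁻¹ * g)
      (by rw [img_mul, h0]; conv_lhs => rw [← img_tr_none p, img_inv_img])
      (by rw [img_mul, h1]; conv_lhs => rw [← img_tr_orig p, img_inv_img])
    exact ⟨p, l, by rw [← hl, mul_inv_cancel_left]⟩

/-- The group is transitive. -/
theorem exists_img_none (x : Option (Pt C)) : ∃ g : G C, img g none = x := by
  rcases x with _ | p
  · exact ⟨1, rfl⟩
  · exact ⟨tr p * fl C, by rw [img_mul, img_fl_none, img_tr_orig]⟩

end Elements

end CfsgLib.BinaryOneClass.Unit
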