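import Cfsg.Agent.BinaryOneClass.UnitalBorel

/-!
# Binary coset actions of `PSU_3(q)`, `q` even, with even point stabilisers

A point stabiliser cannot contain two root groups, hence it is one root group.
-/

set_option autoImplicit false
set_option linter.style.haveILetI false
set_option linter.unusedSectionVars false

namespace CfsgLib.BinaryOneClass.Unit

open Matrix CfsgLib.RepBounds.Unit CfsgLib.SUThreeUnipotent CfsgLib.SUThreePresentation
  CfsgLib.SuzukiTheorem.Unital CfsgLib.DicksonPSL2 CfsgLib.DicksonPSL2.Binary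

variable {F : Type*} [Field F] [Fintype F] [CharP F 2] {C : ConjField F}

theorem not_off_of_app {k : suG C (Fin 3)} {x : Option (Pt C)} {a z : F}
    (h : app C k (pv C x) = vv C a 0 z) : ¬ Off (img (el k) x) := by
  rintro ⟨p, hp, hs⟩
  obtain ⟨r, hr, e⟩ := exists_line k x
  rw [h, hp, pv_some, vv_smul] at e
  exact hs ((mul_eq_zero.1 (vec_inj (frame C) e).2.1.symm).resolve_left hr)

theorem eq_cp_of_not_off {p : Pt C} (h : ¬ Off (some p)) :
    ∃ (k : F) (hk : C.σ k = k), p = cp (C := C) k hk :=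
  eq_cp (by by_contra hs; exact h ⟨p, rfl, hs⟩)

section Generation

variable {K : Subgroup (G C)} (hZ : rootGrp C ≤ K) (hO : conjS (fl C) (rootGrp C) ≤ K)
include hZ hO

theorem fl_mem : fl C ∈ K := by
  have hu : tr (cp (1 : F) (map_one C.σ)) ∈ K := hZ ⟨1, map_one _, rfl⟩
  have h1 : fl C * tr (cp (1 : F) (map_one C.σ)) * fl C ∈ K := by
    refine hO (mem_conjS.2 ⟨1, map_one _, ?_⟩)
    rw [inv_eq_of_mul_eq_one_right fl_mul_self]
    simp only [← mul_assoc, fl_mul_self, one_mul]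
    rw [mul_assoc, fl_mul_self, mul_one]
  rw [fl_tr_fl (map_one C.σ) one_ne_zero] at h1
  simp only [inv_one, Units.mk0_one, tor_one, mul_one] at h1
  exact (K.mul_mem_cancel_left hu).1 ((K.mul_mem_cancel_right hu).1 h1)

theorem tor_mem_of_fixed {l : Fˣ} (hl : C.σ (l : F) = l) : tor l ∈ K := by
  have hli : C.σ ((l⁻¹ : Fˣ) : F) = ((l⁻¹ : Fˣ) : F) := by
    rw [Units.val_inv_eq_inv_val, map_inv₀, hl]
  have hfl := fl_mem hZ hO
  have hmem : ∀ (d : F) (hd : C.σ d = d), tr (cp d hd) ∈ K := fun d hd => hZ ⟨d, hd, rfl⟩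
  have h := fl_tr_fl hli (Units.ne_zero _)
  have h1 : fl C * tr (cp ((l⁻¹ : Fˣ) : F) hli) * fl C ∈ K :=
    mul_mem (mul_mem hfl (hmem _ hli)) hfl
  rw [h, Units.mk0_val, inv_inv] at h1
  exact (K.mul_mem_cancel_left (hmem _ _)).1
    ((K.mul_mem_cancel_right hfl).1 ((K.mul_mem_cancel_right (hmem _ _)).1 h1))

/-- The translations with first parameter `s` lie in `K` as soon as one does. -/
theorem tr_mem_of_fst {p p' : Pt C} (hp : tr p ∈ K) (h : p'.1.1 = p.1.1) : tr p' ∈ K := by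
  have hv : p.1.2 + C.σ p.1.2 + p.1.1 * C.σ p.1.1 = 0 := p.2
  have hv' : p'.1.2 + C.σ p'.1.2 + p.1.1 * C.σ p.1.1 = 0 := h ▸ p'.2
  have hσ : C.σ (p'.1.2 - p.1.2) = p'.1.2 - p.1.2 := by
    rw [map_sub]
    linear_combination hv' - hv + (p.1.2 - p'.1.2) * (CharTwo.two_eq_zero (R := F))
  have : p' = ptMul C p (cp (p'.1.2 - p.1.2) hσ) := by
    refine Subtype.ext (Prod.ext ?_ ?_) <;> simp [ptMul, cp, h]
  rw [this, ← tr_mul]
  exact mul_mem hp (hZ ⟨_, hσ, rfl⟩)

/-- A root group off the chord makes `K` everything. -/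
theorem eq_top_of_off (hq : 4 ≤ C.q) {c : G C} (hc : conjS c (rootGrp C) ≤ K)
    (hoff : Off (img c none)) : K = ⊤ := by
  classical
  obtain ⟨k, hk, hk0, hk1⟩ := exists_fixed_scalar (C := C) hq
  have hk1' : 1 + k ≠ 0 := fun e => hk1 (CharTwo.add_eq_zero.1 e).symm
  -- translations from a root group off the chord
  have key : ∀ (c : G C) (p : Pt C), conjS c (rootGrp C) ≤ K → img c none = some p →
      p.1.1 ≠ 0 → ∀ p' : Pt C, p'.1.1 = p.1.1 → tr p' ∈ K := by
    intro c p hc hcp hs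
    set v := tr p with hv
    have hvn : img v⁻¹ none = none := by conv_lhs => rw [← img_tr_none p, img_inv_img]
    have hvv : conjS v (rootGrp C) = rootGrp C := conjS_rootGrp_of_fix (img_tr_none p)
    have hO' : conjS (fl C) (rootGrp C) ≤ conjS v⁻¹ K := fun y hy => by
      rw [mem_conjS, inv_inv]
      obtain ⟨h2, hf⟩ := mem_conjS_rootGrp.1 hy
      rw [img_fl_none] at hf
      refine hc (mem_conjS_rootGrp.2 ⟨?_, ?_⟩)
      · calc v * y * v⁻¹ * (v * y * v⁻¹) = v * (y * y) * v⁻¹ := by group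
          _ = 1 := by rw [h2]; group
      · rw [hcp, img_mul, img_mul,
          show img v⁻¹ (some p) = some (orig C) by
            rw [hv]; conv_lhs => rw [← img_tr_orig p, img_inv_img],
          hf, hv, img_tr_orig]
    have hZ' : rootGrp C ≤ conjS v⁻¹ K := fun y hy => by
      rw [mem_conjS, inv_inv]
      refine hZ (mem_rootGrp_of_sq ?_ ?_)
      · rw [img_mul, img_mul, hvn, rootGrp_fix hy, hv, img_tr_none]
      · calc v * y * v⁻¹ * (v * y * v⁻¹) = v * (y * y) * v⁻¹ := by group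
          _ = 1 := by rw [rootGrp_sq hy]; group
    set u := Units.mk0 k hk0
    have ht := tor_mem_of_fixed hZ' hO' (l := u) hk
    rw [mem_conjS, inv_inv] at ht
    have hx : v * tor u * v⁻¹ * (tor u)⁻¹ ∈ K :=
      mul_mem ht (inv_mem (tor_mem_of_fixed hZ hO (l := u) hk))
    have hconj : tor u * v⁻¹ * (tor u)⁻¹ = (tr (smulPt u p))⁻¹ := by
      rw [← conj_inv, hv, tor_tr, mul_inv_cancel_right]
    have hxe : v * tor u * v⁻¹ * (tor u)⁻¹ = tr p * (tr (smulPt u p))⁻¹ := by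
      rw [← hconj, hv]; group
    have hmemT : tr p * (tr (smulPt u p))⁻¹ ∈ trGrp C :=
      mul_mem (mem_trGrp.2 ⟨p, rfl⟩) (inv_mem (mem_trGrp.2 ⟨_, rfl⟩))
    rw [← hxe, mem_trGrp] at hmemT
    obtain ⟨p'', hp''⟩ := hmemT
    have hfst : p''.1.1 + k * p.1.1 = p.1.1 := by
      have h := congrArg (· * tr (smulPt u p)) (hp''.trans hxe)
      simp only [inv_mul_cancel_right, tr_mul, tr_injective.eq_iff] at h
      have := congrArg (fun q : Pt C => q.1.1) h
      simp only [ptMul, smulPt] at this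
      rw [mu_fixed (C := C) (a := (u : F)) hk] at this
      exact this
    intro p' hp'
    set m := Units.mk0 (1 + k)⁻¹ (inv_ne_zero hk1')
    have hm : C.σ (m : F) = m := by
      show C.σ (1 + k)⁻¹ = (1 + k)⁻¹
      rw [map_inv₀, map_add, map_one, hk]
    have hm' := tor_mem_of_fixed hZ hO hm
    have h2 : tr (smulPt m p'') ∈ K := by
      rw [show tr (smulPt m p'') = tor m * tr p'' * (tor m)⁻¹ by
        rw [tor_tr, mul_inv_cancel_right]]
      exact mul_mem (mul_mem hm' (hp'' ▸ hx)) (inv_mem hm')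
    refine tr_mem_of_fst hZ hO h2 ?_
    show p'.1.1 = mu C (m : F) * p''.1.1
    rw [mu_fixed (C := C) hm, hp']
    show p.1.1 = (1 + k)⁻¹ * p''.1.1
    rw [eq_inv_mul_iff_mul_eq₀ hk1']
    linear_combination p.1.1 * k * (CharTwo.two_eq_zero (R := F)) - hfst
  obtain ⟨p, hp, hs⟩ := hoff
  have hd : p.1.2 ≠ 0 := snd_ne_zero (fun e => hs (by rw [e]; rfl))
  have hS0 := key c p hc hp hs
  have hfl := fl_mem hZ hO
  have hp2 : img (fl C * c) none = some ⟨(-p.1.1 / p.1.2, 1 / p.1.2), p.2.left hd⟩ := by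
    rw [img_mul, hp]; exact tau_some C p hd
  have hc2 : conjS (fl C * c) (rootGrp C) ≤ K := by
    rw [conjS_mul]
    intro y hy
    have h := mul_mem (mul_mem hfl (hc (mem_conjS.1 hy))) (inv_mem hfl)
    simpa [mul_assoc] using h
  have hS1 := key _ _ hc2 hp2 (div_ne_zero (neg_ne_zero.2 hs) hd)
  have hv := p.2
  unfold Val at hv
  have hD : p.1.2 + C.σ p.1.2 ≠ 0 := by
    intro e
    rw [e, zero_add] at hv
    exact mul_ne_zero hs (sigma_ne hs) hv
  have hall : ∀ q : Pt C, tr q ∈ K := by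
    intro q
    set d := p.1.2
    set y := q.1.1 * d / p.1.1 with hy
    set α := (y + C.σ y) / (d + C.σ d) with hα
    have hασ : C.σ α = α := by
      rw [hα, map_div₀, map_add, map_add, C.invol, C.invol, add_comm (C.σ y), add_comm (C.σ d)]
    set β := y + α * d with hβ
    have hβσ : C.σ β = β := by
      rw [hβ, map_add, map_mul, hασ]
      have : α * (d + C.σ d) = y + C.σ y := div_mul_cancel₀ _ hD
      linear_combination this + (C.σ y - α * d) * (CharTwo.two_eq_zero (R := F))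
    have hscale : ∀ (γ s : F), C.σ γ = γ → (∀ p' : Pt C, p'.1.1 = s → tr p' ∈ K) →
        ∃ p' : Pt C, p'.1.1 = γ * s ∧ tr p' ∈ K := by
      intro γ s hγ hmem
      by_cases h0 : γ = 0
      · exact ⟨orig C, by simp [orig, h0], by rw [tr_orig]; exact one_mem K⟩
      obtain ⟨p', hp'⟩ := exists_pt (C := C) s
      refine ⟨smulPt (Units.mk0 γ h0) p', ?_, ?_⟩
      · show mu C γ * p'.1.1 = γ * s
        rw [mu_fixed (C := C) hγ, hp']
      · have htm := tor_mem_of_fixed hZ hO (l := Units.mk0 γ h0) hγ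
        have h := mul_mem (mul_mem htm (hmem p' hp')) (inv_mem htm)
        rwa [tor_tr, mul_inv_cancel_right] at h
    obtain ⟨q0, hq0, hq0m⟩ := hscale α p.1.1 hασ hS0
    obtain ⟨q1, hq1, hq1m⟩ := hscale β _ hβσ hS1
    refine tr_mem_of_fst hZ hO (p := ptMul C q0 q1) (by rw [← tr_mul]; exact mul_mem hq0m hq1m) ?_
    show q.1.1 = q0.1.1 + q1.1.1
    rw [hq0, hq1, hβ, hy]
    simp only [CharTwo.neg_eq]
    field_simp
    linear_combination -α * p.1.1 * d * (CharTwo.two_eq_zero (R := F))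
  rw [eq_top_iff]
  rintro ⟨g, hg⟩ -
  have hgm : g ∈ modelGrp C := by rw [← rho_range C (by omega)]; exact hg
  have hle : modelGrp C ≤ K.map (G C).subtype := by
    rw [modelGrp, Subgroup.closure_le]
    rintro x (rfl | ⟨q, rfl⟩)
    · exact ⟨fl C, hfl, rfl⟩
    · exact ⟨tr q, hall q, rfl⟩
  obtain ⟨y, hy, hye⟩ := hle hgm
  rwa [← show y = ⟨g, hg⟩ from Subtype.ext hye]

end Generation


section Main

/-- An element fixing infinity is determined there up to the torus. -/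
theorem img_eq_of_mem_map {H : Subgroup (G C)} {c g : G C} (hc : conjS c (rootGrp C) ≤ H)
    (hg : g ∈ H) : conjS (g * c) (rootGrp C) ≤ H := fun y hy => by
  have h := mul_mem (mul_mem hg (hc (show g⁻¹ * y * g ∈ conjS c (rootGrp C) by
    rw [mem_conjS] at hy ⊢; simpa [mul_assoc] using hy))) (inv_mem hg)
  simpa [mul_assoc] using h

theorem even_q : Even C.q := by
  obtain ⟨n, hn⟩ := FiniteField.card F 2
  rw [C.card] at hn
  have : Even (C.q ^ 2) := hn.2 ▸ Nat.even_pow.2 ⟨even_two, n.ne_zero⟩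
  exact (Nat.even_pow.1 this).1

theorem tor_pow_eq_one {m : Fˣ} (hm : nrm C (m : F) = 1) : tor (C := C) m ^ (C.q + 1) = 1 := by
  rw [tor_pow, ← tor_one]
  congr 1
  refine Units.ext ?_
  rw [Units.val_pow_eq_pow_val, pow_succ, ← C.pow, mul_comm, Units.val_one]
  exact hm

theorem conj_pow' {X : Type*} [Group X] (g x : X) (n : ℕ) :
    (g * x * g⁻¹) ^ n = g * x ^ n * g⁻¹ := by
  induction n with
  | zero => simp
  | succ n ih => rw [pow_succ, pow_succ, ih]; group

theorem mem_of_sq_mem {X : Type*} [Group X] {H : Subgroup X} {x : X} {n : ℕ} (hn : Even n)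
    (hpow : x ^ (n + 1) = 1) (h : x * x ∈ H) : x ∈ H := by
  obtain ⟨j, rfl⟩ := hn
  have e : (x * x) ^ (j + 1) = x := by
    rw [← pow_two, ← pow_mul, show 2 * (j + 1) = j + j + 1 + 1 by omega, pow_succ, hpow, one_mul]
  rw [← e]
  exact pow_mem h _

theorem eq_one_of_sq {X : Type*} [Monoid X] {x : X} {n : ℕ} (hn : Even n)
    (hpow : x ^ (n + 1) = 1) (h : x * x = 1) : x = 1 := by
  obtain ⟨j, rfl⟩ := hn
  rwa [show j + j + 1 = 2 * j + 1 by omega, pow_succ, pow_mul, pow_two, h, one_pow, one_mul] at hpow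

/-- Square roots in characteristic two. -/
theorem exists_sqrt {k : F} (hk : C.σ k = k) : ∃ k', k' * k' = k ∧ C.σ k' = k' := by
  have hinj : Function.Injective (fun x : F => x * x) := fun a b h => by
    simp only at h
    have h2 : (a + b) ^ 2 = 0 := by
      rw [CharTwo.add_sq, pow_two, pow_two, h, CharTwo.add_self_eq_zero]
    exact CharTwo.add_eq_zero.1 (sq_eq_zero_iff.1 h2)
  obtain ⟨k', hk'⟩ := (Finite.injective_iff_surjective.1 hinj) k
  refine ⟨k', hk', hinj ?_⟩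
  show C.σ k' * C.σ k' = k' * k'
  rw [← map_mul]
  simp only at hk'
  rw [hk', hk]

theorem exists_chord {H : Subgroup (G C)}
    (hZ : rootGrp C ≤ H) (hO : conjS (fl C) (rootGrp C) ≤ H) :
    ∀ x : Option (Pt C), ¬ Off x → ∃ h ∈ H, img h none = x := by
  have hfl := fl_mem hZ hO
  intro x hx
  rcases x with _ | p
  · exact ⟨1, one_mem _, rfl⟩
  · obtain ⟨k, hk, rfl⟩ := eq_cp_of_not_off hx
    exact ⟨tr (cp k hk) * fl C, mul_mem (hZ ⟨k, hk, rfl⟩) hfl,
      by rw [img_mul, img_fl_none, img_tr_orig]⟩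

theorem exists_decomp
    {H : Subgroup (G C)} (hq : 4 ≤ C.q) (hne : H ≠ ⊤)
    (hZ : rootGrp C ≤ H) (hO : conjS (fl C) (rootGrp C) ≤ H) :
    ∀ g ∈ H, ∃ h₁ ∈ H, ∃ (d : F) (hd : C.σ d = d) (l : Fˣ),
      g = h₁ * tr (cp d hd) * tor l ∧ tor l ∈ H ∧
        (h₁ = 1 ∨ ∃ (e : F) (he : C.σ e = e), h₁ = tr (cp e he) * fl C) := by
  have hfl := fl_mem hZ hO
  have noOff : ∀ {c : G C}, conjS c (rootGrp C) ≤ H → ¬ Off (img c none) := fun hc hoff =>
    hne (eq_top_of_off hZ hO hq hc hoff)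
  have hconj1 : conjS (1 : G C) (rootGrp C) ≤ H := by rw [conjS_one]; exact hZ
  intro g hg
  have h1 := img_eq_of_mem_map hconj1 hg
  rw [mul_one] at h1
  obtain ⟨h₁, hh₁, hh₁n, hform⟩ : ∃ h₁ ∈ H, img h₁ none = img g none ∧
      (h₁ = 1 ∨ ∃ (e : F) (he : C.σ e = e), h₁ = tr (cp e he) * fl C) := by
    rcases hx : img g none with _ | p
    · exact ⟨1, one_mem _, rfl, Or.inl rfl⟩
    · obtain ⟨k, hk, rfl⟩ := eq_cp_of_not_off (hx ▸ noOff h1)
      exact ⟨tr (cp k hk) * fl C, mul_mem (hZ ⟨k, hk, rfl⟩) hfl,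
        by rw [img_mul, img_fl_none, img_tr_orig], Or.inr ⟨k, hk, rfl⟩⟩
  set g' := h₁⁻¹ * g with hg'def
  have hg' : g' ∈ H := mul_mem (inv_mem hh₁) hg
  have hg'n : img g' none = none := by
    rw [hg'def, img_mul, ← hh₁n, img_inv_img]
  have h2 := noOff (img_eq_of_mem_map hO hg')
  rw [img_mul, img_fl_none] at h2
  rcases ho : img g' (some (orig C)) with _ | p
  · exact absurd (img_injective g' (ho.trans hg'n.symm)) (by simp)
  · obtain ⟨d, hd, rfl⟩ := eq_cp_of_not_off (ho ▸ h2)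
    obtain ⟨l, hl⟩ := exists_eq_tor (g := (tr (cp d hd))⁻¹ * g')
      (by rw [img_mul, hg'n]; conv_lhs => rw [← img_tr_none (cp d hd), img_inv_img])
      (by rw [img_mul, ho]; conv_lhs => rw [← img_tr_orig (cp d hd), img_inv_img])
    refine ⟨h₁, hh₁, d, hd, l, ?_, ?_, hform⟩
    · rw [← hl, hg'def]; group
    · rw [← hl]; exact mul_mem (inv_mem (hZ ⟨d, hd, rfl⟩)) hg'

/-- A central element of the chord group cannot lie in a point stabiliser. -/
theorem false_of_central {m : Fˣ} (hm : nrm C (m : F) = 1) (hm1 : tor (C := C) m ≠ 1)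
    {H : Subgroup (G C)} (hq : 4 ≤ C.q) (hne : H ≠ ⊤)
    (hZ : rootGrp C ≤ H) (hO : conjS (fl C) (rootGrp C) ≤ H)
    (hmH : tor m ∈ H) (hb : IsBin H)
    (hroot : ∀ g ∈ H, g ≠ 1 → g * g = 1 → ∀ c, img g (img c none) = img c none →
      conjS c (rootGrp C) ≤ H)
    {K0 : G C → Subgroup (G C)} (hK0 : ∀ c, IsInt H (K0 c) ∧ K0 c = conjS c (rootGrp C)) :
    False := by
  obtain ⟨T⟩ := nonempty_tau C
  have hfl := fl_mem hZ hO
  have hconj1 : conjS (1 : G C) (rootGrp C) ≤ H := by rw [conjS_one]; exact hZ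
  have noOff : ∀ {c : G C}, conjS c (rootGrp C) ≤ H → ¬ Off (img c none) := fun hc hoff =>
    hne (eq_top_of_off hZ hO hq hc hoff)
  have chord := exists_chord hZ hO
  have hT := T.dg_torEl hm
  obtain ⟨Ta, hTa⟩ : ∃ x, x = torEl C m := ⟨_, rfl⟩
  rw [← hTa] at hT
  obtain ⟨Aa, hAa⟩ : ∃ x, x = T.gEl * Ta * T.gEl⁻¹ := ⟨_, rfl⟩
  obtain ⟨Ba, hBa⟩ : ∃ x, x = T.gEl⁻¹ * Ta * T.gEl := ⟨_, rfl⟩
  have hp := hT.prod
  have hA : T.Dg Aa m (C.σ m / m) m := hAa ▸ hT.conj_g
  have hB : T.Dg Ba (C.σ m / m) m m := hBa ▸ hT.conj_g'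
  have hTA : Commute Ta Aa := by
    refine Tau.Dg.unique (hT.mul hA) ?_
    have h := hA.mul hT
    convert h using 1 <;> ring
  have hABT : Ta * Aa * Ba = 1 := by
    have h := (hT.mul hA).mul hB
    rw [hp, show (m : F) * (C.σ m / m) * m = 1 by rw [← hp]; ring,
      show C.σ m / (m : F) * m * m = 1 by rw [← hp]; ring] at h
    exact h.unique Tau.dg_one
  have hw0AB : T.w0El * Ba * T.w0El = Aa := hB.conj_w0.unique hA
  have hwAT : T.wEl * Aa * T.wEl = Ta := hA.conj_w.unique hT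
  obtain ⟨t, ht⟩ : ∃ x, x = el Ta := ⟨_, rfl⟩
  obtain ⟨A, hAdef⟩ : ∃ x, x = el Aa := ⟨_, rfl⟩
  obtain ⟨B, hBdef⟩ : ∃ x, x = el Ba := ⟨_, rfl⟩
  have htm : t = tor m := by rw [ht, hTa]; rfl
  have htA : Commute t A := by rw [ht, hAdef]; exact hTA.map el
  have hw0 : el T.w0El = fl C * tr (cp (1 : F) (map_one C.σ)) * fl C := el_botEl _
  have hw0H : el T.w0El ∈ H := by
    rw [hw0]; exact mul_mem (mul_mem hfl (hZ ⟨_, _, rfl⟩)) hfl
  have hw0o : img (el T.w0El) (some (orig C)) = some (orig C) := by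
    rw [hw0, img_mul, img_mul, img_fl_orig, img_tr_none, img_fl_none]
  have hw02 : el T.w0El * el T.w0El = 1 := by rw [← map_mul, T.w0_sq, map_one]
  have hx : B * el T.w0El * B⁻¹ ∈ H := by
    have hno : ¬ Off (img B (some (orig C))) := by
      rw [hBdef]
      refine not_off_of_app (a := C.σ m / m + m) (z := C.σ m / m * T.τ + m * C.σ T.τ) ?_
      rw [pv_orig, T.combine 0 0 1, app_add, app_add, app_smul, app_smul, app_smul, hB.1, hB.2.1,
        hB.2.2]
      simp only [Tau.vA, Tau.vB, vv_smul, vv_add]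
      congr 1 <;> ring
    obtain ⟨h, hh, hhn⟩ := chord _ hno
    have hle := img_eq_of_mem_map hconj1 hh
    rw [mul_one] at hle
    refine hle (mem_conjS_rootGrp.2 ⟨?_, ?_⟩)
    · calc B * el T.w0El * B⁻¹ * (B * el T.w0El * B⁻¹) = B * (el T.w0El * el T.w0El) * B⁻¹ := by
            group
        _ = 1 := by rw [hw02]; group
    · rw [hhn, img_mul, img_mul, img_inv_img, hw0o]
  have hABH : A * B⁻¹ ∈ H := by
    have e : A = el T.w0El * B * el T.w0El := by rw [hBdef, ← map_mul, ← map_mul, hw0AB, hAdef]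
    rw [e, mul_assoc, mul_assoc, ← mul_assoc B]
    exact mul_mem hw0H hx
  have hAodd : A ^ (C.q + 1) = 1 := by
    rw [hAdef, hAa, map_mul, map_mul, map_inv, conj_pow', show el Ta = tor m by rw [← ht, htm],
      tor_pow_eq_one hm, mul_one, mul_inv_cancel]
  have hA2 : A * A ∈ H := by
    have e : B⁻¹ = t * A := by
      rw [eq_comm, eq_inv_iff_mul_eq_one, ht, hAdef, hBdef, ← map_mul, ← map_mul, hABT, map_one]
    rw [e, ← mul_assoc, ← htA.eq, mul_assoc] at hABH
    exact (H.mul_mem_cancel_left (htm ▸ hmH)).1 hABH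
  have hAH : A ∈ H := mem_of_sq_mem (even_q (C := C)) hAodd hA2
  set w := el T.wEl with hw
  set e := A * t⁻¹ with hedef
  have heH : e ∈ H := mul_mem hAH (inv_mem (htm ▸ hmH))
  have hw2 : w * w = 1 := by rw [hw, ← map_mul, T.w_sq, map_one]
  have hwA : w * A * w = t := by rw [hw, hAdef, ← map_mul, ← map_mul, hwAT, ← ht]
  have hwT : w * t * w = A := by
    rw [← hwA, show w * (w * A * w) * w = (w * w) * A * (w * w) by group, hw2, one_mul, mul_one]
  have hwe : w * e * w = e⁻¹ := by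
    have h1 : w * t⁻¹ * w = A⁻¹ := by
      rw [eq_inv_iff_mul_eq_one, ← hwT,
        show w * t⁻¹ * w * (w * t * w) = w * t⁻¹ * (w * w) * t * w by group, hw2, mul_one,
        mul_assoc w, inv_mul_cancel, mul_one, hw2]
    have hw' : w * e * w = (w * A * w) * (w * t⁻¹ * w) := by
      rw [hedef, show w * A * w * (w * t⁻¹ * w) = w * A * (w * w) * t⁻¹ * w by group, hw2, mul_one]
      group
    rw [hw', hwA, h1, hedef, _root_.mul_inv_rev, inv_inv]
  have he1 : e ≠ 1 := by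
    intro he
    rw [hedef, mul_inv_eq_one] at he
    apply hm1
    refine tor_eq_one_of_off T.off_g ?_
    rw [← htm]
    conv_lhs => rw [← he, hAdef, hAa, map_mul, map_mul, map_inv, img_mul, img_mul, img_inv_img]
    rw [show img (el Ta) none = none by rw [← ht, htm, img_tor_none]]
  have hr2 : w * e * (w * e) = 1 := by rw [← mul_assoc, hwe, inv_mul_cancel]
  obtain ⟨z, hz⟩ := exists_fix_of_sq hr2
  obtain ⟨c', hc'⟩ := exists_img_none z
  obtain ⟨cw, hcw⟩ := exists_img_none (some T.pW)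
  have hP := (hK0 cw).2
  have hQ := (hK0 c').2
  have hwP : w ∈ K0 cw := by
    rw [hP]; exact mem_conjS_rootGrp.2 ⟨hw2, by rw [hcw]; exact T.img_wEl⟩
  have hR := criterion_bot hb (hK0 cw).1 (hK0 c').1 (IsInt.self H) (fun y hy hy' => ?_) hwP
    (show w * e ∈ K0 c' by rw [hQ]; exact mem_conjS_rootGrp.2 ⟨hr2, by rw [hc']; exact hz⟩)
    (inv_mem heH) (mul_inv_cancel_right w e).symm
  · have hw1 : w ≠ 1 := fun h => he1 (by
      rw [h, one_mul, mul_one] at hwe
      refine eq_one_of_sq (even_q (C := C)) (x := e) ?_ (mul_eq_one_iff_eq_inv.2 hwe)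
      rw [hedef, htA.symm.inv_right.mul_pow, hAodd, inv_pow,
        htm, tor_pow_eq_one hm, inv_one, mul_one])
    exact noOff (hroot w hR hw1 hw2 cw (by rw [hcw]; exact T.img_wEl)) (hcw ▸ T.off_pW)
  · by_contra hy1
    rw [hP, mem_conjS_rootGrp, hcw] at hy
    rw [hQ, mem_conjS_rootGrp, hc'] at hy'
    have hzw : z = some T.pW := fix_unique hy.1 hy1 hy'.2 hy.2
    have hwe' : w * e ∈ K0 cw := by
      rw [hP]; exact mem_conjS_rootGrp.2 ⟨hr2, by rw [hcw, ← hzw]; exact hz⟩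
    have heK : e ∈ K0 cw := by
      have := mul_mem hwP hwe'
      rwa [← mul_assoc, hw2, one_mul] at this
    rw [hP, mem_conjS_rootGrp] at heK
    refine he1 (eq_one_of_sq (even_q (C := C)) (x := e) ?_ heK.1)
    rw [hedef, htA.symm.inv_right.mul_pow, hAodd, inv_pow, htm,
      tor_pow_eq_one hm, inv_one, mul_one]

/-- The chord group is not a point stabiliser. -/
theorem false_of_no_central
    {H : Subgroup (G C)} (hq : 4 ≤ C.q) (hne : H ≠ ⊤)
    (hZ : rootGrp C ≤ H) (hO : conjS (fl C) (rootGrp C) ≤ H)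
    (hb : IsBin H)
    (hD : ∀ m : Fˣ, nrm C (m : F) = 1 → tor (C := C) m ∈ H → tor (C := C) m = 1) : False := by
  obtain ⟨T⟩ := nonempty_tau C
  have hfl := fl_mem hZ hO
  have decomp := exists_decomp hq hne hZ hO
  -- every element of `H` has a lift fixing the third vector
  let St : Subgroup (suG C (Fin 3)) :=
    { carrier := {k | app C k (vv C 0 1 0) = vv C 0 1 0}
      one_mem' := app_one C _
      mul_mem' := fun {a b} ha hb => by
        show app C (a * b) _ = _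
        rw [app_mul, show app C b (vv C 0 1 0) = _ from hb]
        exact ha
      inv_mem' := fun {a} ha => by
        show app C a⁻¹ _ = _
        conv_lhs => rw [← show app C a (vv C 0 1 0) = _ from ha]
        exact app_inv_app C a _ }
  have hSt : ∀ k, k ∈ St ↔ app C k (vv C 0 1 0) = vv C 0 1 0 := fun k => Iff.rfl
  have flS : fl C ∈ St.map el := ⟨flipEl C, (hSt _).2 (app_fl _ _ _), rfl⟩
  have cpS : ∀ (d : F) (hd : C.σ d = d), tr (cp d hd) ∈ St.map el := fun d hd =>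
    ⟨rootEl C (cp d hd), (hSt _).2 (by rw [app_cpEl, mul_zero, add_zero]), rfl⟩
  have torS : ∀ l : Fˣ, C.σ (l : F) = l → tor l ∈ St.map el := fun l hl =>
    ⟨torEl C l, (hSt _).2 (by rw [app_torEl, hl, div_self l.ne_zero]; simp), rfl⟩
  have hle : H ≤ St.map el := by
    intro g hg
    obtain ⟨h₁, hh₁, d, hd, l, rfl, hlH, hform⟩ := decomp g hg
    obtain ⟨k', hk', hk'σ⟩ := exists_sqrt (nrm_fixed (C := C) (l : F))
    have hk'0 : k' ≠ 0 := by rintro rfl; exact nrm_ne l.ne_zero (by simpa using hk'.symm)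
    set u := Units.mk0 k' hk'0
    have huH : tor u ∈ H := tor_mem_of_fixed hZ hO hk'σ
    have h1 := hD (l * u⁻¹) (by
      rw [Units.val_mul, Units.val_inv_eq_inv_val, nrm_mul, ← hk']
      show k' * k' * nrm C k'⁻¹ = 1
      rw [nrm, map_inv₀, hk'σ]
      field_simp) (by rw [← tor_mul, ← tor_inv]; exact mul_mem hlH (inv_mem huH))
    rw [← tor_mul, ← tor_inv, mul_inv_eq_one] at h1
    rw [h1]
    refine mul_mem (mul_mem ?_ (cpS d hd)) (torS u hk'σ)
    rcases hform with rfl | ⟨e, he, rfl⟩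
    · exact one_mem _
    · exact mul_mem (cpS e he) flS
  obtain ⟨s, hs, hsne, hs3⟩ := exists_norm_one (C := C) hq
  obtain ⟨x, y, hxσ, hyσ, k, hkσ, hE⟩ := T.exists_elliptic hs hsne
  set E := rootEl C (cp x hxσ) * torEl C k * flipEl C * rootEl C (cp y hyσ) with hEdef
  have hEH : el E ∈ H := by
    rw [hEdef, map_mul, map_mul, map_mul]
    exact mul_mem (mul_mem (mul_mem (hZ ⟨x, hxσ, rfl⟩) (tor_mem_of_fixed hZ hO hkσ)) hfl)
      (hZ ⟨y, hyσ, rfl⟩)
  set X := T.gEl * E * T.gEl⁻¹ with hX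
  set Y := T.gEl⁻¹ * E * T.gEl with hY
  have hXYE : X * E * Y = 1 := by
    have h := (hE.conj_g.mul hE).mul hE.conj_g'
    rw [show C.σ s * s * 1 = 1 by linear_combination hs,
      show (1 : F) * C.σ s * s = 1 by linear_combination hs,
      show s * 1 * C.σ s = 1 by linear_combination hs] at h
    exact h.unique Tau.dg_one
  set gg := el T.gEl with hgg
  have hxP : el X ∈ conjS gg H := by
    rw [mem_conjS, hgg, hX, ← map_inv, ← map_mul, ← map_mul]
    simpa [mul_assoc] using hEH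
  have hqQ : (el Y)⁻¹ ∈ conjS gg⁻¹ H := inv_mem (by
    rw [mem_conjS, inv_inv, hgg, hY, ← map_inv, ← map_mul, ← map_mul]
    simpa [mul_assoc] using hEH)
  obtain ⟨y', hyP, hyQ, hyR⟩ := criterion hb (IsInt.conj (IsInt.self H) gg)
    (IsInt.conj (IsInt.self H) gg⁻¹) (IsInt.self H) hxP hqQ (inv_mem hEH)
    (show el X = (el Y)⁻¹ * (el E)⁻¹ by
      rw [← _root_.mul_inv_rev, eq_inv_iff_mul_eq_one, ← map_mul, ← map_mul, ← mul_assoc, hXYE,
        map_one])
  obtain ⟨k1, hk1, hk1e⟩ := hle (mem_conjS.1 hyP)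
  obtain ⟨k2, hk2, hk2e⟩ := hle (mem_conjS.1 hyQ)
  obtain ⟨k3, hk3, hk3e⟩ := hle hyR
  have hk1' := (hSt k1).1 hk1
  have hk2' := (hSt k2).1 hk2
  have hk3' := (hSt k3).1 hk3
  set Y1 := T.gEl * k1 * T.gEl⁻¹ with hY1
  set Y2 := T.gEl⁻¹ * k2 * T.gEl with hY2
  have hy1 : el Y1 = y' := by
    rw [hY1, map_mul, map_mul, map_inv, hk1e, hgg]; group
  have hy2 : el Y2 = y' := by
    rw [hY2, map_mul, map_mul, map_inv, hk2e, hgg]; group
  have scalar : ∀ a b : suG C (Fin 3), el a = el b →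
      ∃ ω : F, ω ^ 3 = 1 ∧ ∀ v, app C a v = ω • app C b v := by
    intro a b hab
    have hk : a * b⁻¹ ∈ Subgroup.center (suG C (Fin 3)) := by
      rw [← rho_ker, MonoidHom.mem_ker]
      have h1 : el (a * b⁻¹) = 1 := by rw [map_mul, map_inv, hab, mul_inv_cancel]
      exact congrArg Subtype.val h1
    obtain ⟨ω, hω⟩ := central_scalar (frame C) hk
    refine ⟨ω, ?_, fun v => ?_⟩
    · have h := prod_eq_one (a * b⁻¹) (c := ![ω, ω, ω]) T.independent (fun i => by
        fin_cases i <;> exact hω _)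
      rw [Fin.prod_univ_three] at h
      simp only [Matrix.cons_val_zero, Matrix.cons_val_one, Matrix.cons_val_two, Matrix.head_cons,
        Matrix.tail_cons] at h
      linear_combination h
    · rw [← hω, ← app_mul, inv_mul_cancel_right]
  have hgA : app C T.gEl T.vA = vv C 0 1 0 := by
    rw [Tau.gEl, app_mul, T.w0_vA, T.w_vB]
  have hgC : app C T.gEl (vv C 0 1 0) = T.vB := by
    rw [Tau.gEl, app_mul, T.w0_vC, T.w_vC]
  have hY1B : app C Y1 T.vB = T.vB := by
    rw [hY1, app_mul, app_mul]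
    conv_lhs => rw [← hgC, app_inv_app, hk1', hgC]
  have hY2A : app C Y2 T.vA = T.vA := by
    rw [hY2, app_mul, app_mul, hgA, hk2']
    conv_lhs => rw [← hgA, app_inv_app]
  obtain ⟨ω, hω3, hω⟩ := scalar Y1 Y2 (hy1.trans hy2.symm)
  have hY1A : app C Y1 T.vA = ω • T.vA := by rw [hω, hY2A]
  obtain ⟨ν, hY1C⟩ : ∃ ν, app C Y1 (vv C 0 1 0) = ν • vv C 0 1 0 := by
    obtain ⟨a, b, c, habc⟩ : ∃ a b c, app C Y1 (vv C 0 1 0) = vv C a b c := ⟨_, _, _, vec_of _ _⟩
    have hω0 : ω ≠ 0 := by rintro rfl; simp at hω3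
    have hherm : ∀ a' b' c' a'' c'' : F, herm C (vv C a' b' c') (vv C a'' 0 c'') =
        C.σ a'' * c' + C.σ c'' * a' := by
      intro a' b' c' a'' c''
      rw [show vv C a'' 0 c'' = a'' • (frame C).e 0 + c'' • (frame C).f 0 by
        rw [(frame C).vec_e, (frame C).vec_f, Frame.smul_vec, Frame.smul_vec, Frame.add_vec]; simp,
        herm_add_right, herm_smul_right, herm_smul_right, ((frame C).herm_vec a' b' c').1,
        ((frame C).herm_vec a' b' c').2.2]
    have h1 := herm_app C Y1 (vv C 0 1 0) T.vA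
    have h2 := herm_app C Y1 (vv C 0 1 0) T.vB
    rw [habc, hY1A, herm_smul_right] at h1
    rw [habc, hY1B] at h2
    simp only [Tau.vA, Tau.vB, hherm, map_one, one_mul, mul_zero, add_zero, C.invol] at h1 h2
    have h1' := (mul_eq_zero.1 h1).resolve_left (sigma_ne hω0)
    have ha : a = 0 := by
      linear_combination h1' - h2 - a * T.sigma
    have hc : c = 0 := by linear_combination h2 - T.τ * ha
    exact ⟨b, by rw [habc, ha, hc, vv_smul]; simp⟩
  have hων : ω * 1 * ν = 1 := Tau.Dg.prod ⟨hY1A, by rw [hY1B, one_smul], hY1C⟩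
  have hXC : app C X (vv C 0 1 0) = s • vv C 0 1 0 := hE.conj_g.2.2
  obtain ⟨κ, hκ3, hκ⟩ := scalar (Y1⁻¹ * X) k3 (by rw [map_mul, map_inv, hy1, hk3e])
  have h1 := hκ (vv C 0 1 0)
  rw [hk3', app_mul, hXC, app_smul] at h1
  have h2 : app C Y1⁻¹ (vv C 0 1 0) = ω • vv C 0 1 0 := by
    refine app_inv_eq C ?_
    rw [app_smul, hY1C, smul_smul, show ω * ν = 1 by linear_combination hων, one_smul]
  rw [h2, vv_smul, vv_smul, vv_smul] at h1
  have h3 := (vec_inj (frame C) h1).2.1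
  rw [mul_one, mul_one] at h3
  apply hs3
  calc s ^ 3 = (s * ω) ^ 3 := by rw [mul_pow, hω3, mul_one]
    _ = 1 := by rw [h3, hκ3]

/-- The point stabiliser contains only one root group. -/
theorem not_two {H : Subgroup (G C)} (hb : IsBin H) (hq : 4 ≤ C.q) (hne : H ≠ ⊤)
    (hroot : ∀ g ∈ H, g ≠ 1 → g * g = 1 → ∀ c, img g (img c none) = img c none →
      conjS c (rootGrp C) ≤ H)
    {K0 : G C → Subgroup (G C)} (hK0 : ∀ c, IsInt H (K0 c) ∧ K0 c = conjS c (rootGrp C))
    (hZ : rootGrp C ≤ H) (hO : conjS (fl C) (rootGrp C) ≤ H) : False := by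
  by_cases hD : ∃ m : Fˣ, nrm C (m : F) = 1 ∧ tor (C := C) m ∈ H ∧ tor (C := C) m ≠ 1
  · obtain ⟨m, hm, hmH, hm1⟩ := hD
    exact false_of_central hm hm1 hq hne hZ hO hmH hb hroot hK0
  · push Not at hD
    exact false_of_no_central hq hne hZ hO hb hD

end Main

end CfsgLib.BinaryOneClass.Unit
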