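import Cfsg.Agent.BinaryOneClass.UnitalElements

/-!
# Intersections of stabilisers inside a Borel subgroup of `PSU_3(q)`

In a binary action an intersection of stabilisers which contains the root group at infinity and
fixes infinity is that root group.
-/

set_option autoImplicit false
set_option linter.style.haveILetI false
set_option linter.unusedSectionVars false

namespace CfsgLib.BinaryOneClass.Unit

open Matrix CfsgLib.RepBounds.Unit CfsgLib.SUThreeUnipotent CfsgLib.SUThreePresentation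
  CfsgLib.SuzukiTheorem.Unital CfsgLib.DicksonPSL2 CfsgLib.DicksonPSL2.Binary

variable {F : Type*} [Field F] [Fintype F] [CharP F 2] {C : ConjField F}

theorem conjS_rootGrp_of_fix {c : G C} (hc : img c none = none) :
    conjS c (rootGrp C) = rootGrp C := by
  ext y
  rw [mem_conjS_rootGrp, hc]
  exact ⟨fun h => mem_rootGrp_of_sq h.2 h.1, fun h => ⟨rootGrp_sq h, rootGrp_fix h⟩⟩

theorem fix_of_mem_conjS {K : Subgroup (G C)} (h0 : ∀ g ∈ K, img g none = none) {c g : G C}
    (hg : g ∈ conjS c K) : img g (img c none) = img c none := by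
  have := h0 _ (mem_conjS.1 hg)
  rw [img_mul, img_mul] at this
  conv_rhs => rw [← this, ← img_mul, mul_inv_cancel, img_one]

theorem mem_conjS_of_invol {K : Subgroup (G C)} (hZ : rootGrp C ≤ K) {c g : G C} (h2 : g * g = 1)
    (hfix : img g (img c none) = img c none) : g ∈ conjS c K := by
  rw [mem_conjS]
  exact hZ (mem_conjS.1 (mem_conjS_rootGrp.2 ⟨h2, hfix⟩))

variable {H : Subgroup (G C)}

/-- No nontrivial torus element lies in such an intersection. -/
theorem no_tor (hb : IsBin H) {K : Subgroup (G C)} (hK : IsInt H K) (hZ : rootGrp C ≤ K)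
    (h0 : ∀ g ∈ K, img g none = none) {l : Fˣ} (hl : tor l ∈ K) : tor (C := C) l = 1 := by
  classical
  set L := K ⊓ conjS (fl C) K with hLdef
  have hL : IsInt H L := hK.inf (hK.conj _)
  have hflinv : (fl C)⁻¹ = fl C := inv_eq_of_mul_eq_one_right fl_mul_self
  have hLfix : ∀ g ∈ L, ∃ m, g = tor (C := C) m := by
    rintro g ⟨hg, hg'⟩
    refine exists_eq_tor (h0 g hg) ?_
    have := fix_of_mem_conjS h0 hg'
    rwa [img_fl_none] at this
  have htL : ∀ m : Fˣ, tor (C := C) m ∈ K → tor (C := C) m ∈ L := by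
    intro m hm
    refine ⟨hm, mem_conjS.2 ?_⟩
    rw [hflinv, fl_tor, show iota C m = (m ^ C.q)⁻¹ from Units.ext (by
      rw [coe_iota, Units.val_inv_eq_inv_val, Units.val_pow_eq_pow_val, C.pow]),
      ← tor_inv, ← tor_pow]
    exact inv_mem (pow_mem hm _)
  obtain ⟨T⟩ := nonempty_tau C
  have hD : ∀ m : Fˣ, nrm C (m : F) = 1 → tor (C := C) m ∈ L → tor (C := C) m = 1 := by
    intro m hm hmL
    set A := torEl C m
    have hA := T.dg_torEl hm
    have hprod : A * (T.gEl * A * T.gEl⁻¹) * (T.gEl⁻¹ * A * T.gEl) = 1 := by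
      have h := (hA.mul hA.conj_g).mul hA.conj_g'
      have hp := hA.prod
      have e1 : (m : F) * m * (C.σ m / m) = 1 := hp
      rw [e1, show (m : F) * (C.σ m / m) * m = 1 by rw [← e1]; ring,
        show C.σ m / (m : F) * m * m = 1 by rw [← e1]; ring] at h
      exact h.unique Tau.dg_one
    set gg := el T.gEl with hgg
    have hA' : tor m = el A := rfl
    have hB : gg * tor m * gg⁻¹ = el (T.gEl * A * T.gEl⁻¹) := by
      rw [hgg, hA', map_mul, map_mul, map_inv]
    have hB' : gg⁻¹ * tor m * gg = el (T.gEl⁻¹ * A * T.gEl) := by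
      rw [hgg, hA', map_mul, map_mul, map_inv]
    have hx : tor (C := C) m = (gg⁻¹ * tor m * gg)⁻¹ * (gg * tor m * gg⁻¹)⁻¹ := by
      rw [hB, hB', ← _root_.mul_inv_rev, eq_inv_iff_mul_eq_one, hA', ← map_mul, ← map_mul, ← mul_assoc,
        hprod, map_one]
    have hR := criterion_bot hb hL (hL.conj gg⁻¹) (hL.conj gg) (fun g hg hg' => ?_) hmL
      (inv_mem (mem_conjS.2 (show (gg⁻¹)⁻¹ * (gg⁻¹ * tor m * gg) * gg⁻¹ ∈ L by
        simpa [mul_assoc] using hmL)))
      (inv_mem (mem_conjS.2 (show gg⁻¹ * (gg * tor m * gg⁻¹) * gg ∈ L by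
        simpa [mul_assoc] using hmL))) hx
    · have hfix := fix_of_mem_conjS (fun g hg => h0 g (Subgroup.mem_inf.1 hg).1) hR
      exact tor_eq_one_of_off T.off_g hfix
    · obtain ⟨n, rfl⟩ := hLfix g hg
      have hfix := fix_of_mem_conjS (fun g hg => h0 g (Subgroup.mem_inf.1 hg).1) hg'
      rw [hgg, ← map_inv] at hfix
      exact tor_eq_one_of_off T.off_g_inv hfix
  by_cases hn : nrm C (l : F) = 1
  · exact hD l hn (htL l hl)
  exfalso
  set k : Fˣ := l * l ^ C.q with hk
  have hkv : (k : F) = nrm C (l : F) := by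
    rw [hk, Units.val_mul, Units.val_pow_eq_pow_val, nrm, C.pow]
  have hkσ : C.σ (k : F) = k := by rw [hkv, nrm_fixed]
  have hkL : tor (C := C) k ∈ L := htL k (by rw [hk, ← tor_mul, ← tor_pow]; exact mul_mem hl (pow_mem hl _))
  have hinv : fl C * tor k * fl C = (tor k)⁻¹ := by
    rw [fl_tor, tor_inv]; congr 1
    exact Units.ext (by rw [coe_iota, hkσ, Units.val_inv_eq_inv_val])
  set r := fl C * tor k with hr
  have hr2 : r * r = 1 := by
    rw [hr, ← mul_assoc, hinv, inv_mul_cancel]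
  obtain ⟨y, hy⟩ := exists_fix_of_sq hr2
  obtain ⟨c', hc'⟩ := exists_img_none y
  set c := tr (cp (1 : F) (map_one C.σ)) * fl C with hc
  have hcn : img c none = some (cp (1 : F) (map_one C.σ)) := by
    rw [hc, img_mul, img_fl_none, img_tr_orig]
  have hflfix : img (fl C) (some (cp (1 : F) (map_one C.σ))) = some (cp (1 : F) (map_one C.σ)) :=
    img_el_eq one_ne_zero (by rw [one_smul, pv_some]; exact app_fl _ _ _)
  have hfl1 : fl C ≠ 1 := fun e => by
    have := img_fl_none (C := C)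
    rw [e, img_one] at this
    exact Option.some_ne_none _ this.symm
  have hnrm : ∀ m : Fˣ, img (tor (C := C) m) (some (cp (1 : F) (map_one C.σ))) =
      some (cp (1 : F) (map_one C.σ)) → nrm C (m : F) = 1 := fun m hm => by
    have h := (smulPt_eq_self hm).2
    simpa [cp] using h
  have hR := criterion_bot hb hL (hK.conj c) (hK.conj c') (fun g hg hg' => ?_) hkL
    (mem_conjS_of_invol hZ fl_mul_self (by rw [hcn]; exact hflfix))
    (mem_conjS_of_invol hZ hr2 (by rw [hc']; exact hy))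
    (show tor k = fl C * r by rw [hr, ← mul_assoc, fl_mul_self, one_mul])
  · have hky := fix_of_mem_conjS h0 hR
    rw [hc'] at hky
    rw [hr, img_mul, hky] at hy
    have hyc : y = some (cp (1 : F) (map_one C.σ)) := fix_unique fl_mul_self hfl1 hy hflfix
    rw [hyc] at hky
    have h1 := hnrm k hky
    rw [nrm, hkσ] at h1
    have h2 : ((k : F) + 1) ^ 2 = 0 := by
      rw [CharTwo.add_sq, one_pow, pow_two, h1, CharTwo.add_self_eq_zero]
    exact hn (hkv ▸ CharTwo.add_eq_zero.1 (sq_eq_zero_iff.1 h2))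
  · obtain ⟨m, rfl⟩ := hLfix g hg
    have hfix := fix_of_mem_conjS h0 hg'
    rw [hcn] at hfix
    exact hD m (hnrm m hfix) hg

/-- The intersection consists of translations. -/
theorem le_trGrp (hb : IsBin H) {K : Subgroup (G C)} (hK : IsInt H K) (hZ : rootGrp C ≤ K)
    (h0 : ∀ g ∈ K, img g none = none) : K ≤ trGrp C := by
  intro g hg
  set n := orderOf g with hn
  by_cases hodd : ∃ r, r.Prime ∧ r ∣ n ∧ r ≠ 2
  · exfalso
    obtain ⟨r, hr, hrn, hr2⟩ := hodd
    have hn0 : 0 < n := orderOf_pos g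
    set h := g ^ (n / r) with hh
    have hhK : h ∈ K := pow_mem hg _
    have ho : orderOf h = r := by
      rw [hh, hn, orderOf_pow_orderOf_div (orderOf_pos g).ne' hrn]
    obtain ⟨p, hp⟩ := exists_fixed_affine hr hr2 ho (h0 h hhK)
    set K' := conjS (tr p)⁻¹ K with hK'
    have hpn : img (tr p)⁻¹ none = none := by
      conv_lhs => rw [← img_tr_none p, img_inv_img]
    have hZ' : rootGrp C ≤ K' := by
      rw [← conjS_rootGrp_of_fix hpn]
      exact Subgroup.map_mono hZ
    have h0' : ∀ y ∈ K', img y none = none := fun y hy => by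
      have := fix_of_mem_conjS h0 hy
      rwa [hpn] at this
    obtain ⟨l, hl⟩ := exists_eq_tor (g := (tr p)⁻¹ * h * tr p)
      (by rw [img_mul, img_mul, img_tr_none, h0 h hhK, hpn])
      (by rw [img_mul, img_mul, img_tr_orig, hp]; conv_lhs => rw [← img_tr_orig p, img_inv_img])
    have hlK : tor l ∈ K' := by
      rw [← hl, hK', mem_conjS]; simpa [mul_assoc] using hhK
    have := no_tor hb (hK.conj _) hZ' h0' hlK
    rw [← hl] at this
    have h1 : h = 1 := by
      calc h = tr p * ((tr p)⁻¹ * h * tr p) * (tr p)⁻¹ := by group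
        _ = 1 := by rw [this]; group
    rw [h1, orderOf_one] at ho
    exact hr.one_lt.ne ho
  · push Not at hodd
    have hpow := Nat.eq_prime_pow_of_unique_prime_dvd (orderOf_pos g).ne'
      (fun {d} hd hdn => hodd d hd hdn)
    refine mem_trGrp_of_two (h0 g hg) (k := (orderOf g).primeFactorsList.length) ?_
    rw [← hpow, pow_orderOf_eq_one]

/-- The intersection is the root group. -/
theorem eq_rootGrp (hb : IsBin H) (hq : 4 ≤ C.q) {K : Subgroup (G C)} (hK : IsInt H K)
    (hZ : rootGrp C ≤ K) (h0 : ∀ g ∈ K, img g none = none) : K = rootGrp C := by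
  refine le_antisymm (fun g hg => ?_) hZ
  obtain ⟨p, rfl⟩ := le_trGrp hb hK hZ h0 hg
  rw [tr_mem_rootGrp]
  by_contra hs
  have hd : p.1.2 ≠ 0 := snd_ne_zero (fun e => hs (by rw [e]; rfl))
  have hs' := sigma_ne (C := C) hs
  have h2 : (2 : F) = 0 := CharTwo.two_eq_zero
  set c := p.1.2 / C.σ p.1.1 with hc
  have hc0 : c ≠ 0 := div_ne_zero hd hs'
  obtain ⟨e, he, hne⟩ := exists_cube_ne hq
  have he' := sigma_ne (C := C) he
  set k0 := C.σ e * C.σ e / e + e * e / C.σ e with hk0
  have hk00 : k0 ≠ 0 := by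
    intro h
    rw [hk0, div_add_div _ _ he he', div_eq_zero_iff, or_iff_left (mul_ne_zero he he')] at h
    apply hne
    rw [map_pow]
    linear_combination h - e ^ 3 * h2
  set R := c * C.σ c with hR
  have hR0 : R ≠ 0 := mul_ne_zero hc0 (sigma_ne hc0)
  obtain ⟨t, ht⟩ : ∃ t, t = R / k0 * e := ⟨_, rfl⟩
  have hk0σ : C.σ k0 = k0 := by
    rw [hk0, map_add, map_div₀, map_div₀, map_mul, map_mul, C.invol, add_comm]
  have hfac : C.σ (R / k0) = R / k0 := by
    rw [map_div₀, hk0σ, hR, map_mul, C.invol, mul_comm]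
  have ht0 : t ≠ 0 := ht ▸ mul_ne_zero (div_ne_zero hR0 hk00) he
  have hσt : C.σ t = R / k0 * C.σ e := by rw [ht, map_mul, hfac]
  obtain ⟨d, hdd⟩ : ∃ d, d = C.σ t * C.σ t / t := ⟨_, rfl⟩
  have hd1 : d + C.σ d = R := by
    rw [hdd, map_div₀, map_mul, C.invol, hσt, ht]
    calc R / k0 * C.σ e * (R / k0 * C.σ e) / (R / k0 * e) +
        R / k0 * e * (R / k0 * e) / (R / k0 * C.σ e) = R / k0 * k0 := by
          rw [hk0]; field_simp
      _ = R := div_mul_cancel₀ R hk00
  have hval : Val C c d := by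
    unfold Val
    linear_combination hd1 + R * h2
  set q : Pt C := ⟨(c, d), hval⟩
  set tu : Fˣ := Units.mk0 t ht0
  obtain ⟨gg, hgg⟩ : ∃ gg, gg = tr q * tor tu * fl C := ⟨_, rfl⟩
  have hg3 : gg ^ 3 = 1 := hgg ▸ cube q tu hdd
  have hug3 : (tr p * gg) ^ 3 = 1 := by
    rw [hgg, ← mul_assoc, ← mul_assoc, tr_mul]
    refine cube _ tu ?_
    rw [show (tu : F) = t from rfl, ← hdd]
    show p.1.2 + d - C.σ p.1.1 * c = d
    rw [hc, mul_div_cancel₀ _ hs']
    ring
  rw [pow_three'] at hg3 hug3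
  have hinv : gg⁻¹ = gg * gg := inv_eq_of_mul_eq_one_right (by rw [← mul_assoc, hg3])
  have hprod : tr p * (gg * tr p * gg⁻¹) * (gg * gg * tr p * (gg * gg)⁻¹) = 1 := by
    have h2' : (gg * gg)⁻¹ = gg := inv_eq_of_mul_eq_one_right (by rw [hg3])
    rw [h2', hinv]
    calc tr p * (gg * tr p * (gg * gg)) * (gg * gg * tr p * gg)
        = tr p * gg * tr p * ((gg * gg * gg) * gg) * tr p * gg := by group
      _ = tr p * gg * (tr p * gg) * (tr p * gg) := by rw [hg3]; group
      _ = 1 := hug3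
  have hgn : img gg none = some q := by
    rw [hgg, img_mul, img_mul, img_fl_none, img_tor_orig, img_tr_orig]
  have hg2n : img (gg * gg) none ≠ none := by
    intro h
    have h' : img (gg * gg * gg) none = none := by rw [hg3, img_one]
    rw [mul_assoc, img_mul] at h'
    rw [h, hgn] at h'
    exact Option.some_ne_none q h' 
  have hkey : ∀ y ∈ K, ∀ x, x ≠ none → img y x = x → y = 1 := by
    intro y hy x hx hfix
    obtain ⟨p', rfl⟩ := le_trGrp hb hK hZ h0 hy
    rcases x with _ | q'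
    · exact absurd rfl hx
    · rw [img_tr_fix hfix, tr_orig]
  have hxR := criterion_bot hb hK (hK.conj (gg * gg)) (hK.conj gg)
    (fun y hy hy' => hkey y hy _ hg2n (fix_of_mem_conjS h0 hy')) hg
    (inv_mem (mem_conjS.2 (show (gg * gg)⁻¹ * (gg * gg * tr p * (gg * gg)⁻¹) * (gg * gg) ∈ K by
      simpa [mul_assoc] using hg)))
    (inv_mem (mem_conjS.2 (show gg⁻¹ * (gg * tr p * gg⁻¹) * gg ∈ K by
      simpa [mul_assoc] using hg)))
    (show tr p = (gg * gg * tr p * (gg * gg)⁻¹)⁻¹ * (gg * tr p * gg⁻¹)⁻¹ by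
      rw [← _root_.mul_inv_rev, eq_inv_iff_mul_eq_one, ← mul_assoc, hprod])
  have h1 := hkey _ hg _ (by rw [hgn]; exact Option.some_ne_none q) (fix_of_mem_conjS h0 hxR)
  rw [← tr_orig, tr_injective.eq_iff] at h1
  exact hs (by rw [h1]; rfl)

end CfsgLib.BinaryOneClass.Unit
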