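import Cfsg.Agent.BinaryOneClass.UnitalInvol

/-!
# Special elements of `PSU_3(q)`, `q` even

For `τ + στ = 1` the vectors `(1, 0, τ)`, `(1, 0, στ)`, `(0, 1, 0)` are orthonormal; two root
elements permute them, and elements of the chord group are diagonal in this basis.
-/

set_option autoImplicit false
set_option linter.style.haveILetI false
set_option linter.unusedSectionVars false

namespace CfsgLib.BinaryOneClass.Unit

open Matrix CfsgLib.RepBounds.Unit CfsgLib.SUThreeUnipotent CfsgLib.SUThreePresentation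
  CfsgLib.SuzukiTheorem.Unital CfsgLib.DicksonPSL2

variable {F : Type*} [Field F] [Fintype F] [CharP F 2] {C : ConjField F}

theorem app_fl (a y z : F) : app C (flipEl C) (vv C a y z) = vv C z y a := by
  rw [app_flipEl, CharTwo.neg_eq]

theorem app_cpEl {k : F} (hk : C.σ k = k) (a y z : F) :
    app C (rootEl C (cp k hk)) (vv C a y z) = vv C (a + k * z) y z := by
  rw [app_ptEl]; simp [cp]

theorem fl_mul_self : fl C * fl C = 1 := by
  rw [fl, ← map_mul, show flipEl C * flipEl C = 1 from ext_vv fun a y z => by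
    rw [app_mul, app_fl, app_fl, app_one], map_one]

theorem fl_tor (l : Fˣ) : fl C * tor l * fl C = tor (iota C l) := by
  rw [fl, tor, tor, ← map_mul, ← map_mul]
  congr 1
  refine ext_vv fun a y z => ?_
  have hl := l.ne_zero
  have hl' := sigma_ne (C := C) hl
  rw [app_mul, app_mul, app_fl, app_torEl, app_fl, app_torEl, coe_iota, map_inv₀, C.invol]
  congr 1 <;> field_simp

theorem cp_tr_mul {a b : F} (ha : C.σ a = a) (hb : C.σ b = b) :
    tr (cp (C := C) a ha) * tr (cp b hb) = tr (cp (a + b) (by rw [map_add, ha, hb])) := by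
  rw [tr_mul]; congr 1
  refine Subtype.ext (Prod.ext ?_ ?_) <;> simp [cp, ptMul]

/-- The rank one relation on the chord. -/
theorem fl_tr_fl {d : F} (hd : C.σ d = d) (hd0 : d ≠ 0) :
    fl C * tr (cp d hd) * fl C =
      tr (cp d⁻¹ (by rw [map_inv₀, hd])) * tor (Units.mk0 d hd0)⁻¹ * fl C *
        tr (cp d⁻¹ (by rw [map_inv₀, hd])) := by
  simp only [fl, tor, tr, ← map_mul]
  congr 1
  refine ext_vv fun a y z => ?_
  simp only [app_mul, app_fl, app_cpEl, app_torEl, Units.val_inv_eq_inv_val, Units.val_mk0,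
    map_inv₀, hd]
  congr 1
  · field_simp
    linear_combination -z * (CharTwo.two_eq_zero (R := F))
  · field_simp
  · field_simp
    ring

theorem pow_three' {M : Type*} [Monoid M] (x : M) : x ^ 3 = x * x * x := by
  simp [pow_succ, mul_assoc]

/-- Elements of order three. -/
theorem cube (p : Pt C) (t : Fˣ) (h : p.1.2 = C.σ t * C.σ t / t) :
    (tr p * tor t * fl C) ^ 3 = 1 := by
  have h2 : (2 : F) = 0 := CharTwo.two_eq_zero
  have ht := t.ne_zero
  have ht' := sigma_ne (C := C) ht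
  have hv : p.1.2 + C.σ p.1.2 + p.1.1 * C.σ p.1.1 = 0 := p.2
  rw [h, map_div₀, map_mul, C.invol] at hv
  field_simp at hv
  simp only [pow_three', fl, tor, tr, ← map_mul]
  rw [← map_one (el (C := C))]
  congr 1
  refine ext_vv fun a y z => ?_
  simp only [app_mul, app_fl, app_torEl, app_ptEl, app_one, h, CharTwo.sub_eq_add]
  congr 1
  · field_simp
    linear_combination (C.σ (t : F) * C.σ p.1.1 * y + (t : F) ^ 2 * z + C.σ (t : F) * a) * hv +
      (C.σ (t : F) ^ 4 * C.σ p.1.1 * y + C.σ (t : F) ^ 2 * (t : F) * p.1.1 * C.σ p.1.1 * a) * h2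
  · field_simp
    linear_combination (C.σ (t : F) ^ 2 * y + (t : F) * p.1.1 * a) * hv +
      (C.σ (t : F) ^ 3 * (t : F) * p.1.1 * C.σ p.1.1 * y - C.σ (t : F) ^ 2 * (t : F) ^ 3 * y + (t : F) ^ 3 * C.σ (t : F) ^ 2 * p.1.1 * z +
        C.σ (t : F) ^ 3 * (t : F) * p.1.1 * a) * h2
  · field_simp
    linear_combination a * hv + (C.σ (t : F) ^ 3 * C.σ p.1.1 * y) * h2

/-- The root element at the origin with parameter `k`. -/
noncomputable def botEl (k : F) (hk : C.σ k = k) : suG C (Fin 3) :=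
  flipEl C * rootEl C (cp k hk) * flipEl C

theorem app_botEl {k : F} (hk : C.σ k = k) (a y z : F) :
    app C (botEl k hk) (vv C a y z) = vv C a y (z + k * a) := by
  rw [botEl, app_mul, app_mul, app_fl, app_cpEl, app_fl]

theorem el_botEl {k : F} (hk : C.σ k = k) :
    el (botEl (C := C) k hk) = fl C * tr (cp k hk) * fl C := by
  rw [botEl, map_mul, map_mul]; rfl

variable (C) in
/-- The parameter of an orthonormal pair. -/
structure Tau where
  /-- the parameter -/
  τ : F
  eq : τ + C.σ τ = 1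

variable (C) in
theorem nonempty_tau : Nonempty (Tau C) := by
  obtain ⟨t, ht⟩ := C.exists_trace_one
  exact ⟨⟨t, ht⟩⟩

namespace Tau

variable (T : Tau C)

theorem sigma : C.σ T.τ = 1 + T.τ := by
  linear_combination T.eq - T.τ * (CharTwo.two_eq_zero (R := F))

theorem ne_zero : T.τ ≠ 0 := fun h => by simpa [h] using T.eq

theorem sigma_ne_zero : C.σ T.τ ≠ 0 := sigma_ne T.ne_zero

theorem one_add_ne_zero : (1 : F) + T.τ ≠ 0 := T.sigma ▸ T.sigma_ne_zero

/-- The first vector. -/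
noncomputable def vA : Fin 3 → F := vv C 1 0 T.τ

/-- The second vector. -/
noncomputable def vB : Fin 3 → F := vv C 1 0 (C.σ T.τ)

theorem combine (a y z : F) : vv C a y z =
    (a * C.σ T.τ + z) • T.vA + (a * T.τ + z) • T.vB + y • vv C 0 1 0 := by
  simp only [vA, vB, vv_smul, vv_add, T.sigma]
  congr 1
  · linear_combination -(a * T.τ + z) * (CharTwo.two_eq_zero (R := F))
  · ring
  · linear_combination -(z * T.τ + a * (T.τ + T.τ * T.τ)) * (CharTwo.two_eq_zero (R := F))

theorem ext3 {k k' : suG C (Fin 3)} (hA : app C k T.vA = app C k' T.vA)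
    (hB : app C k T.vB = app C k' T.vB) (hC : app C k (vv C 0 1 0) = app C k' (vv C 0 1 0)) :
    k = k' := ext_vv fun a y z => by
  rw [T.combine a y z, app_add, app_add, app_smul, app_smul, app_smul, app_add, app_add, app_smul,
    app_smul, app_smul, hA, hB, hC]

theorem independent : LinearIndependent F ![T.vA, T.vB, vv C (0 : F) 1 0] := by
  rw [Fintype.linearIndependent_iff]
  intro g hg
  simp only [Fin.sum_univ_three, Matrix.cons_val_zero, Matrix.cons_val_one, Matrix.cons_val_two,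
    Matrix.head_cons, Matrix.tail_cons, vA, vB, vv_smul, vv_add, mul_one, mul_zero, add_zero,
    zero_add, T.sigma] at hg
  rw [show (0 : Fin 3 → F) = vv C 0 0 0 by rw [vv, Frame.vec]; simp] at hg
  obtain ⟨h0, h1, h2⟩ := vec_inj (frame C) hg
  have e1 : g 1 = 0 := by linear_combination h2 - T.τ * h0
  intro i
  fin_cases i
  · show g 0 = 0
    linear_combination h0 - e1
  · exact e1
  · exact h1

/-- Diagonal in the orthonormal basis. -/
def Dg (k : suG C (Fin 3)) (α β γ : F) : Prop :=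
  app C k T.vA = α • T.vA ∧ app C k T.vB = β • T.vB ∧
    app C k (vv C 0 1 0) = γ • vv C 0 1 0

variable {T}

theorem Dg.unique {k k' : suG C (Fin 3)} {α β γ : F} (h : T.Dg k α β γ) (h' : T.Dg k' α β γ) :
    k = k' := T.ext3 (h.1.trans h'.1.symm) (h.2.1.trans h'.2.1.symm) (h.2.2.trans h'.2.2.symm)

theorem dg_one : T.Dg 1 1 1 1 :=
  ⟨by rw [app_one, one_smul], by rw [app_one, one_smul], by rw [app_one, one_smul]⟩

theorem Dg.mul {k k' : suG C (Fin 3)} {α β γ α' β' γ' : F} (h : T.Dg k α β γ)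
    (h' : T.Dg k' α' β' γ') : T.Dg (k * k') (α * α') (β * β') (γ * γ') := by
  refine ⟨?_, ?_, ?_⟩
  · rw [app_mul, h'.1, app_smul, h.1, smul_smul, mul_comm]
  · rw [app_mul, h'.2.1, app_smul, h.2.1, smul_smul, mul_comm]
  · rw [app_mul, h'.2.2, app_smul, h.2.2, smul_smul, mul_comm]

theorem Dg.prod {k : suG C (Fin 3)} {α β γ : F} (h : T.Dg k α β γ) : α * β * γ = 1 := by
  have := prod_eq_one k (c := ![α, β, γ]) T.independent (fun i => by
    fin_cases i
    · exact h.1
    · exact h.2.1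
    · exact h.2.2)
  simpa [Fin.prod_univ_three] using this

variable (T)

theorem sigma_norm : C.σ (T.τ * C.σ T.τ) = T.τ * C.σ T.τ := by rw [map_mul, C.invol, mul_comm]

/-- The point off the chord. -/
noncomputable def pW : Pt C := ⟨((C.σ T.τ)⁻¹, (C.σ T.τ)⁻¹), by
  have := T.ne_zero
  have := T.sigma_ne_zero
  unfold Val
  rw [map_inv₀, C.invol]
  field_simp
  linear_combination T.eq + (CharTwo.two_eq_zero (R := F))⟩

/-- Its inverse translation. -/
noncomputable def pW' : Pt C := ⟨((C.σ T.τ)⁻¹, T.τ⁻¹), by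
  have := T.ne_zero
  have := T.sigma_ne_zero
  unfold Val
  rw [map_inv₀, map_inv₀, C.invol]
  field_simp
  linear_combination T.eq + (CharTwo.two_eq_zero (R := F))⟩

/-- The involution exchanging the first two vectors. -/
noncomputable def w0El (_T : Tau C) : suG C (Fin 3) := botEl 1 (map_one C.σ)

/-- The involution exchanging the last two vectors. -/
noncomputable def wEl : suG C (Fin 3) :=
  rootEl C T.pW * botEl _ T.sigma_norm * rootEl C T.pW'

theorem app_wEl (a y z : F) : app C T.wEl (vv C a y z) =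
    vv C (a + (a * T.τ + y + z)) (y + (a * T.τ + y + z))
      (z + C.σ T.τ * (a * T.τ + y + z)) := by
  have := T.ne_zero
  have := T.one_add_ne_zero
  have h2 : (2 : F) = 0 := CharTwo.two_eq_zero
  have hσ1 : C.σ (1 + T.τ) = T.τ := by rw [← T.sigma, C.invol]
  simp only [wEl, app_mul, app_botEl, app_ptEl, pW, pW', map_inv₀, CharTwo.sub_eq_add, T.sigma, hσ1]
  congr 1
  · field_simp
    linear_combination (1 + T.τ) * (y + z) * h2
  · field_simp
    linear_combination z * h2
  · field_simp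
    ring

theorem app_w0El (a y z : F) : app C T.w0El (vv C a y z) = vv C a y (z + a) := by
  rw [w0El, app_botEl, one_mul]

theorem w_vA : app C T.wEl T.vA = T.vA := by
  rw [vA, app_wEl]
  congr 1
  · linear_combination T.τ * (CharTwo.two_eq_zero (R := F))
  · linear_combination T.τ * (CharTwo.two_eq_zero (R := F))
  · linear_combination C.σ T.τ * T.τ * (CharTwo.two_eq_zero (R := F))

theorem w_vB : app C T.wEl T.vB = vv C 0 1 0 := by
  rw [vB, app_wEl, T.sigma]
  congr 1
  · linear_combination (1 + T.τ) * (CharTwo.two_eq_zero (R := F))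
  · linear_combination T.τ * (CharTwo.two_eq_zero (R := F))
  · linear_combination (1 + T.τ) ^ 2 * (CharTwo.two_eq_zero (R := F))

theorem w_vC : app C T.wEl (vv C 0 1 0) = T.vB := by
  rw [vB, app_wEl]
  congr 1
  · ring
  · linear_combination (CharTwo.two_eq_zero (R := F))
  · ring

theorem w0_vA : app C T.w0El T.vA = T.vB := by
  rw [vA, vB, app_w0El, T.sigma, add_comm T.τ]

theorem w0_vB : app C T.w0El T.vB = T.vA := by
  rw [vA, vB, app_w0El, T.sigma]
  congr 1
  linear_combination (CharTwo.two_eq_zero (R := F))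

theorem w0_vC : app C T.w0El (vv C 0 1 0) = vv C 0 1 0 := by rw [app_w0El, add_zero]

theorem w_sq : T.wEl * T.wEl = 1 := by
  refine T.ext3 ?_ ?_ ?_ <;> simp [app_mul, app_one, w_vA, w_vB, w_vC]

theorem w0_sq : T.w0El * T.w0El = 1 := by
  refine T.ext3 ?_ ?_ ?_ <;> simp [app_mul, app_one, w0_vA, w0_vB, w0_vC]

/-- The cyclic permutation of the three vectors. -/
noncomputable def gEl : suG C (Fin 3) := T.wEl * T.w0El

theorem gEl_inv : (T.gEl)⁻¹ = T.w0El * T.wEl := inv_eq_of_mul_eq_one_right (by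
  rw [gEl, mul_assoc, ← mul_assoc T.w0El, T.w0_sq, one_mul, T.w_sq])

variable {T}

theorem Dg.conj_w0 {k : suG C (Fin 3)} {α β γ : F} (h : T.Dg k α β γ) :
    T.Dg (T.w0El * k * T.w0El) β α γ := by
  refine ⟨?_, ?_, ?_⟩
  · rw [app_mul, app_mul, T.w0_vA, h.2.1, app_smul, T.w0_vB]
  · rw [app_mul, app_mul, T.w0_vB, h.1, app_smul, T.w0_vA]
  · rw [app_mul, app_mul, T.w0_vC, h.2.2, app_smul, T.w0_vC]

theorem Dg.conj_w {k : suG C (Fin 3)} {α β γ : F} (h : T.Dg k α β γ) :
    T.Dg (T.wEl * k * T.wEl) α γ β := by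
  refine ⟨?_, ?_, ?_⟩
  · rw [app_mul, app_mul, T.w_vA, h.1, app_smul, T.w_vA]
  · rw [app_mul, app_mul, T.w_vB, h.2.2, app_smul, T.w_vC]
  · rw [app_mul, app_mul, T.w_vC, h.2.1, app_smul, T.w_vB]

theorem Dg.conj_g {k : suG C (Fin 3)} {α β γ : F} (h : T.Dg k α β γ) :
    T.Dg (T.gEl * k * T.gEl⁻¹) β γ α := by
  rw [gEl_inv, gEl, show T.wEl * T.w0El * k * (T.w0El * T.wEl) =
    T.wEl * (T.w0El * k * T.w0El) * T.wEl by simp only [mul_assoc]]
  exact h.conj_w0.conj_w

theorem Dg.conj_g' {k : suG C (Fin 3)} {α β γ : F} (h : T.Dg k α β γ) :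
    T.Dg (T.gEl⁻¹ * k * T.gEl) γ α β := by
  rw [gEl_inv, gEl, show T.w0El * T.wEl * k * (T.wEl * T.w0El) =
    T.w0El * (T.wEl * k * T.wEl) * T.w0El by simp only [mul_assoc]]
  exact h.conj_w.conj_w0

variable (T)

theorem dg_torEl {l : Fˣ} (hl : nrm C (l : F) = 1) :
    T.Dg (torEl C l) l l (C.σ l / l) := by
  have h : (C.σ (l : F))⁻¹ = l := inv_eq_of_mul_eq_one_left hl
  refine ⟨?_, ?_, ?_⟩ <;> simp [vA, vB, app_torEl, h, vv_smul]

/-- An element of the chord group with eigenvalues `s, σ s, 1`. -/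
theorem exists_elliptic {s : F} (hs : s * C.σ s = 1) (hne : C.σ s ≠ s) :
    ∃ (x y : F) (hx : C.σ x = x) (hy : C.σ y = y) (k : Fˣ), C.σ (k : F) = k ∧
      T.Dg (rootEl C (cp x hx) * torEl C k * flipEl C * rootEl C (cp y hy)) s (C.σ s) 1 := by
  have h2 : (2 : F) = 0 := CharTwo.two_eq_zero
  have hτ := T.ne_zero
  have hτ1 := T.one_add_ne_zero
  have hσ1 : C.σ (1 + T.τ) = T.τ := by rw [← T.sigma, C.invol]
  have hS : s + C.σ s ≠ 0 := fun h => hne (CharTwo.add_eq_zero.1 h).symm
  obtain ⟨k, hk0, hkσ, hke⟩ : ∃ k : F, k ≠ 0 ∧ C.σ k = k ∧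
      k * ((s + C.σ s) * (T.τ * (1 + T.τ))) = 1 :=
    ⟨((s + C.σ s) * (T.τ * (1 + T.τ)))⁻¹, inv_ne_zero (mul_ne_zero hS (mul_ne_zero hτ hτ1)),
      by rw [map_inv₀, map_mul, map_add, C.invol, map_mul, hσ1, T.sigma, add_comm (C.σ s),
        mul_comm (1 + T.τ)],
      inv_mul_cancel₀ (mul_ne_zero hS (mul_ne_zero hτ hτ1))⟩
  set y := k * (s * T.τ + C.σ s * (1 + T.τ)) with hy
  have hyσ : C.σ y = y := by
    rw [hy, map_mul, hkσ, map_add, map_mul, map_mul, C.invol, hσ1, T.sigma]; ring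
  set x := T.τ⁻¹ + k * C.σ s with hx
  have hxσ : C.σ x = x := by
    rw [hx, map_add, map_inv₀, map_mul, hkσ, C.invol, T.sigma]
    field_simp
    linear_combination hke - (T.τ * (1 + T.τ) * k * C.σ s) * h2
  refine ⟨x, y, hxσ, hyσ, Units.mk0 k hk0, hkσ, ?_, ?_, ?_⟩
  · simp only [vA, app_mul, app_cpEl, app_fl, app_torEl, Units.val_mk0, hkσ, vv_smul, mul_zero, mul_one]
    congr 1
    · rw [hx, hy]
      field_simp
      linear_combination k ^ 2 * T.τ ^ 2 * hs + (1 + k * T.τ * C.σ s) * hke +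
        ((1 + k * T.τ * C.σ s) * (1 - k * T.τ * s) + k ^ 2 * T.τ ^ 2) * h2
    · rw [hy]
      field_simp
      linear_combination hke + (1 - k * s * T.τ) * h2
  · simp only [vB, app_mul, app_cpEl, app_fl, app_torEl, Units.val_mk0, hkσ, vv_smul, mul_zero, mul_one,
      T.sigma]
    congr 1
    · rw [hx, hy]
      field_simp
      linear_combination (1 + k * T.τ * C.σ s + k * C.σ s) * hke -
        k ^ 2 * T.τ * (1 + T.τ) * hs + (1 + k * T.τ * C.σ s + k * C.σ s) * h2
    · rw [hy]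
      field_simp
      linear_combination hke + h2
  · simp [app_mul, app_cpEl, app_fl, app_torEl, hkσ, hk0]

end Tau

end CfsgLib.BinaryOneClass.Unit

namespace CfsgLib.BinaryOneClass.Unit

open Matrix CfsgLib.RepBounds.Unit CfsgLib.SUThreeUnipotent CfsgLib.SUThreePresentation
  CfsgLib.SuzukiTheorem.Unital CfsgLib.DicksonPSL2

variable {F : Type*} [Field F] [Fintype F] [CharP F 2] {C : ConjField F}

/-- Not on the chord through infinity and the origin. -/
def Off (x : Option (Pt C)) : Prop := ∃ p : Pt C, x = some p ∧ p.1.1 ≠ 0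

theorem Off.ne_none {x : Option (Pt C)} (h : Off x) : x ≠ none := by
  obtain ⟨p, rfl, -⟩ := h
  exact Option.some_ne_none p

theorem off_of_app {k : suG C (Fin 3)} {x : Option (Pt C)} {a y z : F}
    (h : app C k (pv C x) = vv C a y z) (hy : y ≠ 0) : Off (img (el k) x) := by
  obtain ⟨r, hr, e⟩ := exists_line k x
  rw [h] at e
  rcases hx : img (el k) x with _ | p
  · rw [hx, pv_none, vv_smul] at e
    exact absurd ((vec_inj (frame C) e).2.1.trans (mul_zero r)) hy
  · rw [hx, pv_some, vv_smul] at e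
    exact ⟨p, rfl, fun h0 => hy (by rw [(vec_inj (frame C) e).2.1, h0, mul_zero])⟩

/-- A nontrivial torus element fixes nothing outside the chord. -/
theorem tor_eq_one_of_off {l : Fˣ} {x : Option (Pt C)} (hx : Off x)
    (h : img (tor l) x = x) : tor (C := C) l = 1 := by
  obtain ⟨p, rfl, hp⟩ := hx
  exact tor_eq_one_of_fix hp h

namespace Tau

variable (T : Tau C)

theorem off_g : Off (img (el T.gEl) none) := by
  refine off_of_app (a := 1 + (1 * T.τ + 0 + 1)) (y := 0 + (1 * T.τ + 0 + 1))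
    (z := 1 + C.σ T.τ * (1 * T.τ + 0 + 1)) ?_ ?_
  · rw [pv_none, gEl, app_mul, app_w0El, zero_add, app_wEl]
  · rw [one_mul, add_zero, zero_add, add_comm]
    exact T.one_add_ne_zero

theorem off_g_inv : Off (img (el T.gEl⁻¹) none) := by
  refine off_of_app (a := 1 + (1 * T.τ + 0 + 0)) (y := 0 + (1 * T.τ + 0 + 0))
    (z := 0 + C.σ T.τ * (1 * T.τ + 0 + 0) + (1 + (1 * T.τ + 0 + 0))) ?_ ?_
  · rw [pv_none, gEl_inv, app_mul, app_wEl, app_w0El]
  · rw [one_mul, add_zero, add_zero, zero_add]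
    exact T.ne_zero

theorem img_wEl : img (el T.wEl) (some T.pW) = some T.pW := by
  refine img_el_eq one_ne_zero ?_
  have := T.ne_zero
  have := T.one_add_ne_zero
  have h2 : (2 : F) = 0 := CharTwo.two_eq_zero
  rw [one_smul, pv_some, app_wEl]
  simp only [pW, T.sigma]
  congr 1
  · field_simp
    linear_combination (1 + T.τ) * h2
  · field_simp
    linear_combination (1 + T.τ) * h2
  · field_simp
    linear_combination (1 + T.τ) * h2

theorem off_pW : Off (some T.pW) := ⟨T.pW, rfl, inv_ne_zero T.sigma_ne_zero⟩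

end Tau

/-- Some cube is not fixed. -/
theorem exists_cube_ne (hq : 4 ≤ C.q) : ∃ e : F, e ≠ 0 ∧ C.σ (e ^ 3) ≠ e ^ 3 := by
  by_contra! h
  obtain ⟨γ, hγ⟩ := IsCyclic.exists_monoid_generator (α := Fˣ)
  have ho : orderOf γ = C.q ^ 2 - 1 := by
    rw [orderOf_eq_card_of_forall_mem_zpowers (fun x => by
      obtain ⟨n, hn⟩ := hγ x
      exact ⟨n, by simpa using hn⟩), Nat.card_units, Nat.card_eq_fintype_card, C.card]
  have h3 := h (γ : F) γ.ne_zero
  rw [C.pow, ← pow_mul] at h3
  have h4 : γ ^ (3 * C.q) = γ ^ 3 := Units.ext (by simpa using h3)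
  have hd : orderOf γ ∣ 3 * C.q - 3 := by
    refine orderOf_dvd_of_pow_eq_one ?_
    rw [pow_sub γ (by omega), h4, mul_inv_cancel]
  rw [ho] at hd
  have hle := Nat.le_of_dvd (by omega) hd
  have : 4 * C.q ≤ C.q ^ 2 := by rw [pow_two]; exact Nat.mul_le_mul_right _ hq
  omega

/-- A norm one element which is not a cube root of unity. -/
theorem exists_norm_one (hq : 4 ≤ C.q) :
    ∃ s : F, s * C.σ s = 1 ∧ C.σ s ≠ s ∧ s ^ 3 ≠ 1 := by
  obtain ⟨e, he, hne⟩ := exists_cube_ne hq
  have he' := sigma_ne (C := C) he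
  have h3 : (C.σ e / e) ^ 3 ≠ 1 := fun h => hne (by
    rw [div_pow, div_eq_one_iff_eq (pow_ne_zero 3 he)] at h
    rwa [map_pow])
  refine ⟨C.σ e / e, by rw [map_div₀, C.invol]; field_simp, fun h => h3 ?_, h3⟩
  have hmul : C.σ e / e * C.σ (C.σ e / e) = 1 := by rw [map_div₀, C.invol]; field_simp
  rw [h] at hmul
  have hsq : (C.σ e / e + 1) ^ 2 = 0 := by
    rw [CharTwo.add_sq, one_pow, pow_two, hmul, CharTwo.add_self_eq_zero]
  rw [CharTwo.add_eq_zero.1 (sq_eq_zero_iff.1 hsq), one_pow]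

/-- A fixed scalar other than `0` and `1`. -/
theorem exists_fixed_scalar (hq : 4 ≤ C.q) : ∃ k : F, C.σ k = k ∧ k ≠ 0 ∧ k ≠ 1 := by
  classical
  by_contra! h
  have hsub : (C.skew : Set F) ⊆ {0, 1} := fun c hc => by
    have hc' : C.σ c = c := by rw [C.skew_eq hc, CharTwo.neg_eq]
    by_cases h0 : c = 0
    · exact Or.inl h0
    · exact Or.inr (h c hc' h0)
  have h1 := Set.ncard_le_ncard hsub (Set.toFinite _)
  have h2 : ({0, 1} : Set F).ncard ≤ 2 := by
    rw [Set.ncard_pair zero_ne_one]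
  rw [← Nat.card_coe_set_eq, SetLike.coe_sort_coe, C.card_skew] at h1
  omega

end CfsgLib.BinaryOneClass.Unit
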