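import Cfsg.Agent.BinaryOneClass.Unital
import Cfsg.Agent.BinaryOneClass.Criterion

/-!
# Involutions and Sylow 2-subgroups of `PSU_3(q)`, `q` even

An involution fixes exactly one point and lies in the root group there.
-/

set_option autoImplicit false
set_option linter.style.haveILetI false
set_option linter.unusedSectionVars false

namespace CfsgLib.BinaryOneClass.Unit

open Matrix CfsgLib.RepBounds.Unit CfsgLib.SUThreeUnipotent CfsgLib.SUThreePresentation
  CfsgLib.SuzukiTheorem.Unital CfsgLib.DicksonPSL2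

variable {F : Type*} [Field F] [Fintype F] [CharP F 2] {C : ConjField F}

theorem val_zero {k : F} : Val C 0 k ↔ C.σ k = k := by rw [val_zero_iff, CharTwo.neg_eq]

/-- A point of the chord through infinity and the origin. -/
def cp (k : F) (hk : C.σ k = k) : Pt C := ⟨(0, k), val_zero.2 hk⟩

theorem eq_cp {p : Pt C} (hp : p.1.1 = 0) :
    ∃ (k : F) (hk : C.σ k = k), p = cp (C := C) k hk :=
  ⟨p.1.2, val_zero.1 (hp ▸ p.2), Subtype.ext (Prod.ext hp rfl)⟩

theorem snd_ne_zero {p : Pt C} (hp : p ≠ orig C) : p.1.2 ≠ 0 := fun e => hp (by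
  have h : p.1.1 = 0 := Val.fst_eq_zero (C := C) (by simpa [e] using p.2)
  exact Subtype.ext (Prod.ext h e))

theorem exists_pt (s : F) : ∃ p : Pt C, p.1.1 = s := by
  obtain ⟨t, ht⟩ := C.exists_trace_one
  refine ⟨⟨(s, s * C.σ s * t), ?_⟩, rfl⟩
  unfold Val
  rw [map_mul, map_mul, C.invol]
  linear_combination s * C.σ s * ht + s * C.σ s * (CharTwo.two_eq_zero (R := F))

theorem ptMul_self (p : Pt C) : (ptMul C p p).1 = (0, p.1.1 * C.σ p.1.1) := by
  simp only [ptMul, CharTwo.add_self_eq_zero, zero_sub, CharTwo.neg_eq, mul_comm (C.σ p.1.1)]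

theorem tr_sq_eq_one {p : Pt C} : tr p * tr p = 1 ↔ p.1.1 = 0 := by
  rw [tr_mul, ← tr_orig, tr_injective.eq_iff, Subtype.ext_iff, ptMul_self]
  simp [orig]

/-- The translations. -/
noncomputable def trGrp (C : ConjField F) : Subgroup (G C) where
  carrier := Set.range tr
  one_mem' := ⟨orig C, tr_orig⟩
  mul_mem' := by rintro _ _ ⟨p, rfl⟩ ⟨q, rfl⟩; exact ⟨ptMul C p q, (tr_mul p q).symm⟩
  inv_mem' := by
    rintro _ ⟨p, rfl⟩
    refine ⟨ptMul C p (ptMul C p p), (inv_eq_of_mul_eq_one_right ?_).symm⟩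
    rw [← tr_mul, ← mul_assoc, tr_mul, ← tr_orig, tr_mul, tr_injective.eq_iff, Subtype.ext_iff]
    simp only [ptMul, orig, CharTwo.add_self_eq_zero, map_zero, zero_mul, sub_zero]

theorem mem_trGrp {g : G C} : g ∈ trGrp C ↔ ∃ p, tr p = g := Iff.rfl

theorem isPGroup_trGrp : IsPGroup 2 (trGrp C) := by
  rintro ⟨_, p, rfl⟩
  refine ⟨2, Subtype.ext ?_⟩
  show tr p ^ 4 = 1
  rw [show tr p ^ 4 = (tr p * tr p) * (tr p * tr p) by simp [pow_succ, mul_assoc], tr_mul,
    tr_sq_eq_one.2 (by rw [ptMul_self])]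

theorem card_pt : ∃ n, 1 ≤ n ∧ Nat.card (Pt C) = 2 ^ n := by
  haveI := Fact.mk Nat.prime_two
  have e : Nat.card (trGrp C) = Nat.card (Pt C) :=
    (Nat.card_congr (Equiv.ofInjective tr tr_injective)).symm
  obtain ⟨n, hn⟩ := IsPGroup.iff_card.1 (isPGroup_trGrp (C := C))
  refine ⟨n, Nat.pos_of_ne_zero ?_, e ▸ hn⟩
  rintro rfl
  rw [e, pow_zero, Nat.card_eq_one_iff_unique] at hn
  obtain ⟨p, hp⟩ := exists_pt (C := C) (1 : F)
  haveI := hn.1
  rw [Subsingleton.elim p (orig C)] at hp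
  exact zero_ne_one hp

theorem img_tr_fix {p q : Pt C} (h : img (tr p) (some q) = some q) : p = orig C := by
  rw [img_tr_some, Option.some.injEq, Subtype.ext_iff, Prod.ext_iff] at h
  simp only [ptMul] at h
  have h1 : p.1.1 = 0 := by linear_combination h.1
  have h2 : p.1.2 = 0 := by
    have := h.2
    rw [h1, map_zero] at this
    linear_combination this
  exact Subtype.ext (Prod.ext h1 h2)

/-- A prime power group has a fixed point when the prime does not divide the number of points. -/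
theorem exists_fixed {r : ℕ} [Fact r.Prime] {P : Subgroup (G C)} (hP : IsPGroup r P)
    (h : ¬ r ∣ Nat.card (Option (Pt C))) : ∃ x, ∀ g ∈ P, img g x = x := by
  have hm := hP.card_modEq_card_fixedPoints (Option (Pt C))
  have hne : Nonempty (MulAction.fixedPoints P (Option (Pt C))) := by
    by_contra hem
    rw [not_nonempty_iff] at hem
    rw [Nat.card_of_isEmpty (α := MulAction.fixedPoints P (Option (Pt C)))] at hm
    exact h (Nat.modEq_zero_iff_dvd.1 hm)
  obtain ⟨⟨x, hx⟩⟩ := hne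
  exact ⟨x, fun g hg => hx ⟨g, hg⟩⟩

theorem exists_fixed_two {P : Subgroup (G C)} (hP : IsPGroup 2 P) :
    ∃ x, ∀ g ∈ P, img g x = x := by
  haveI := Fact.mk Nat.prime_two
  refine exists_fixed hP ?_
  obtain ⟨n, hn, hc⟩ := card_pt (C := C)
  rw [Finite.card_option, hc]
  intro hd
  have : 2 ∣ 2 ^ n := dvd_pow_self 2 (by omega)
  omega

/-- A nontrivial element of odd prime order fixing infinity fixes an affine point. -/
theorem exists_fixed_affine {r : ℕ} (hr : r.Prime) (hr2 : r ≠ 2) {h : G C} (ho : orderOf h = r)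
    (h0 : img h none = none) : ∃ p : Pt C, img h (some p) = some p := by
  haveI := Fact.mk hr
  by_contra! hno
  have hP : IsPGroup r (Subgroup.zpowers h) :=
    IsPGroup.of_card (n := 1) (by rw [Nat.card_zpowers, ho, pow_one])
  have hm := hP.card_modEq_card_fixedPoints (Option (Pt C))
  have hfix : MulAction.fixedPoints (Subgroup.zpowers h) (Option (Pt C)) = {none} := by
    ext x
    rw [Set.mem_singleton_iff, MulAction.mem_fixedPoints]
    constructor
    · intro hx
      rcases x with _ | p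
      · rfl
      · exact absurd (hx ⟨h, Subgroup.mem_zpowers h⟩) (hno p)
    · rintro rfl ⟨_, k, rfl⟩
      show img (h ^ k) none = none
      induction k with
      | zero => rw [zpow_zero, img_one]
      | succ i hi => rw [_root_.zpow_add_one, img_mul, h0, hi]
      | pred i hi =>
        rw [_root_.zpow_sub_one, img_mul]
        conv_lhs => rw [← h0, img_inv_img]
        exact hi
  rw [hfix, Nat.card_coe_set_eq, Set.ncard_singleton, Finite.card_option] at hm
  obtain ⟨n, -, hc⟩ := card_pt (C := C)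
  have hd : r ∣ Nat.card (Pt C) := Nat.modEq_zero_iff_dvd.1 (Nat.ModEq.add_right_cancel' 1 hm)
  rw [hc] at hd
  exact hr2 ((Nat.prime_dvd_prime_iff_eq hr Nat.prime_two).1 (hr.dvd_of_dvd_pow hd))

theorem eq_one_of_pow_two_pow {x : F} : ∀ {k : ℕ}, x ^ 2 ^ k = 1 → x = 1
  | 0, h => by simpa using h
  | k + 1, h => by
    rw [pow_succ, pow_mul] at h
    refine eq_one_of_pow_two_pow (k := k) ?_
    have : (x ^ 2 ^ k + 1) ^ 2 = 0 := by rw [CharTwo.add_sq, h, one_pow, CharTwo.add_self_eq_zero]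
    exact CharTwo.add_eq_zero.1 (sq_eq_zero_iff.1 this)

theorem mu_nrm_of_tor_eq_one {l : Fˣ} (h : tor (C := C) l = 1) :
    mu C (l : F) = 1 ∧ nrm C (l : F) = 1 := by
  obtain ⟨p, hp⟩ := exists_pt (C := C) (1 : F)
  obtain ⟨h1, h2⟩ := smulPt_eq_self (p := p) (by rw [h, img_one])
  rw [hp, mul_one] at h1
  exact ⟨h1, (mul_eq_right₀ (snd_ne_zero (fun e => by
    rw [e] at hp; exact zero_ne_one hp))).1 h2⟩

/-- A 2-element fixing infinity is a translation. -/
theorem mem_trGrp_of_two {g : G C} (h0 : img g none = none) {k : ℕ} (hk : g ^ 2 ^ k = 1) :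
    g ∈ trGrp C := by
  obtain ⟨p, l, rfl⟩ := exists_eq_tr_tor h0
  have hpow : ∀ n : ℕ, ∃ q, (tr p * tor l) ^ n = tr q * tor (l ^ n) := by
    intro n
    induction n with
    | zero => exact ⟨orig C, by rw [pow_zero, pow_zero, tr_orig, tor_one, one_mul]⟩
    | succ n ih =>
      obtain ⟨q, hq⟩ := ih
      refine ⟨ptMul C q (smulPt (l ^ n) p), ?_⟩
      rw [pow_succ, hq, mul_assoc, ← mul_assoc (tor _), tor_tr, mul_assoc (tr _), tor_mul,
        ← mul_assoc, tr_mul, ← pow_succ]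
  obtain ⟨q, hq⟩ := hpow (2 ^ k)
  rw [hk] at hq
  have hq0 : q = orig C := by
    have := congrArg (fun g => img g (some (orig C))) hq
    simp only [img_one, img_mul, img_tor_orig, img_tr_orig, Option.some.injEq] at this
    exact this.symm
  rw [hq0, tr_orig, one_mul] at hq
  obtain ⟨hm, hn⟩ := mu_nrm_of_tor_eq_one hq.symm
  rw [Units.val_pow_eq_pow_val, mu_pow] at hm
  rw [Units.val_pow_eq_pow_val, nrm_pow] at hn
  rw [tor_eq_one_of (eq_one_of_pow_two_pow hm) (eq_one_of_pow_two_pow hn), mul_one]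
  exact ⟨p, rfl⟩

/-- The root group at infinity. -/
noncomputable def rootGrp (C : ConjField F) : Subgroup (G C) where
  carrier := {g | ∃ (k : F) (hk : C.σ k = k), tr (cp k hk) = g}
  one_mem' := ⟨0, map_zero _, tr_orig⟩
  mul_mem' := by
    rintro _ _ ⟨a, ha, rfl⟩ ⟨b, hb, rfl⟩
    refine ⟨a + b, by rw [map_add, ha, hb], ?_⟩
    rw [tr_mul]; congr 1
    refine Subtype.ext (Prod.ext ?_ ?_) <;> simp [cp, ptMul]
  inv_mem' := by
    rintro _ ⟨a, ha, rfl⟩
    exact ⟨a, ha, (inv_eq_of_mul_eq_one_right (tr_sq_eq_one.2 rfl)).symm⟩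

theorem tr_mem_rootGrp {p : Pt C} : tr p ∈ rootGrp C ↔ p.1.1 = 0 := by
  constructor
  · rintro ⟨k, hk, h⟩
    rw [← tr_injective h]; rfl
  · intro hp
    obtain ⟨k, hk, rfl⟩ := eq_cp hp
    exact ⟨k, hk, rfl⟩

theorem rootGrp_sq {g : G C} (hg : g ∈ rootGrp C) : g * g = 1 := by
  obtain ⟨k, hk, rfl⟩ := hg
  exact tr_sq_eq_one.2 rfl

theorem rootGrp_fix {g : G C} (hg : g ∈ rootGrp C) : img g none = none := by
  obtain ⟨k, hk, rfl⟩ := hg
  exact img_tr_none _

theorem mem_rootGrp_of_sq {g : G C} (h0 : img g none = none) (h2 : g * g = 1) :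
    g ∈ rootGrp C := by
  obtain ⟨p, rfl⟩ := mem_trGrp_of_two h0 (k := 1) (by rw [pow_one, pow_two, h2])
  exact tr_mem_rootGrp.2 (tr_sq_eq_one.1 h2)

/-- The root group at a point. -/
theorem mem_conjS_rootGrp {h g : G C} :
    g ∈ conjS h (rootGrp C) ↔ g * g = 1 ∧ img g (img h none) = img h none := by
  rw [mem_conjS]
  constructor
  · intro hg
    refine ⟨?_, ?_⟩
    · calc g * g = h * ((h⁻¹ * g * h) * (h⁻¹ * g * h)) * h⁻¹ := by group
        _ = 1 := by rw [rootGrp_sq hg]; group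
    · have := rootGrp_fix hg
      rw [img_mul, img_mul] at this
      conv_rhs => rw [← this, ← img_mul, mul_inv_cancel, img_one]
  · rintro ⟨h2, hf⟩
    refine mem_rootGrp_of_sq ?_ ?_
    · rw [img_mul, img_mul, hf, img_inv_img]
    · calc h⁻¹ * g * h * (h⁻¹ * g * h) = h⁻¹ * (g * g) * h := by group
        _ = 1 := by rw [h2]; group

/-- An involution fixes exactly one point. -/
theorem fix_unique {g : G C} (h2 : g * g = 1) (h1 : g ≠ 1) {x y : Option (Pt C)}
    (hx : img g x = x) (hy : img g y = y) : x = y := by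
  by_contra hne
  obtain ⟨h, hh⟩ := exists_img_none x
  have hg : h⁻¹ * g * h ∈ rootGrp C := mem_conjS.1 (mem_conjS_rootGrp.2 ⟨h2, by rw [hh, hx]⟩)
  obtain ⟨k, hk, he⟩ := hg
  rcases hy' : img h⁻¹ y with _ | q
  · apply hne
    rw [← hh, ← hy', ← img_mul, mul_inv_cancel, img_one]
  · have hq : img (h⁻¹ * g * h) (some q) = some q := by
      rw [← hy', img_mul, img_mul, ← img_mul h, mul_inv_cancel, img_one, hy]
    rw [← he] at hq
    have := img_tr_fix hq
    rw [this, tr_orig] at he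
    apply h1
    calc g = h * (h⁻¹ * g * h) * h⁻¹ := by group
      _ = 1 := by rw [← he]; group

theorem exists_fix_of_sq {g : G C} (h2 : g * g = 1) : ∃ x, img g x = x := by
  haveI := Fact.mk Nat.prime_two
  have hP : IsPGroup 2 (Subgroup.zpowers g) := by
    rw [IsPGroup.iff_card]
    obtain ⟨j, -, hj⟩ := (Nat.dvd_prime_pow Nat.prime_two).1
      (orderOf_dvd_of_pow_eq_one (x := g) (n := 2 ^ 1) (by rw [pow_one, pow_two, h2]))
    exact ⟨j, by rw [Nat.card_zpowers, hj]⟩
  obtain ⟨x, hx⟩ := exists_fixed_two hP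
  exact ⟨x, hx g (Subgroup.mem_zpowers g)⟩

theorem fix_of_commute {g h : G C} (h2 : g * g = 1) (h1 : g ≠ 1) (hc : Commute h g)
    {x : Option (Pt C)} (hx : img g x = x) : img h x = x :=
  fix_unique h2 h1 (by rw [← img_mul, ← hc.eq, img_mul, hx]) hx

theorem absorbing : ∀ z ∈ rootGrp C, z ≠ 1 → ∀ y, y * y = 1 → Commute y z → y ∈ rootGrp C :=
  fun _ hz hz1 _ hy hc =>
    mem_rootGrp_of_sq (fix_of_commute (rootGrp_sq hz) hz1 hc (rootGrp_fix hz)) hy

/-- The translations form a Sylow subgroup. -/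
theorem exists_sylow : ∃ P : Sylow 2 (G C), (P : Subgroup (G C)) = trGrp C := by
  refine ⟨⟨trGrp C, isPGroup_trGrp, fun {Q} hQ hle => le_antisymm (fun g hg => ?_) hle⟩, rfl⟩
  obtain ⟨x, hx⟩ := exists_fixed_two hQ
  obtain ⟨p, hp⟩ := exists_pt (C := C) (0 : F)
  have hx0 : x = none := by
    rcases x with _ | q
    · rfl
    · exfalso
      have h := img_tr_fix (hx _ (hle ⟨cp 1 (map_one _), rfl⟩))
      exact one_ne_zero (congrArg (fun q : Pt C => q.1.2) h)
  subst hx0
  obtain ⟨k, hk⟩ := hQ ⟨g, hg⟩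
  exact mem_trGrp_of_two (hx g hg) (congrArg Subtype.val hk)

theorem center_trGrp :
    (Subgroup.center (trGrp C)).map (trGrp C).subtype = rootGrp C := by
  ext g
  constructor
  · rintro ⟨⟨_, p, rfl⟩, hz, rfl⟩
    refine tr_mem_rootGrp.2 ?_
    by_contra hs
    obtain ⟨lam, hlam⟩ : ∃ lam, C.σ lam ≠ lam := by
      by_contra! h
      exact C.ne_id (RingHom.ext h)
    obtain ⟨q, hq⟩ := exists_pt (C := C) (lam * p.1.1)
    have hc := congrArg Subtype.val (Subgroup.mem_center_iff.1 hz ⟨_, q, rfl⟩)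
    simp only [Subgroup.coe_mul, tr_mul, tr_injective.eq_iff] at hc
    have h2 := congrArg (fun r : Pt C => r.1.2) hc
    simp only [ptMul, hq, map_mul] at h2
    apply hlam
    have hσ := sigma_ne (C := C) hs
    have : C.σ p.1.1 * p.1.1 * (C.σ lam - lam) = 0 := by linear_combination -h2
    exact sub_eq_zero.1 ((mul_eq_zero.1 this).resolve_left (mul_ne_zero hσ hs))
  · rintro ⟨k, hk, rfl⟩
    refine ⟨⟨_, cp k hk, rfl⟩, ?_, rfl⟩
    rw [SetLike.mem_coe, Subgroup.mem_center_iff]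
    rintro ⟨_, q, rfl⟩
    refine Subtype.ext ?_
    simp only [Subgroup.coe_mul, tr_mul]
    congr 1
    refine Subtype.ext (Prod.ext ?_ ?_) <;> simp [cp, ptMul]
    ring

theorem center_map_conjS {X : Type*} [Group X] (c : X) (S : Subgroup X) :
    (Subgroup.center ↥(conjS c S)).map (conjS c S).subtype =
      conjS c ((Subgroup.center S).map S.subtype) := by
  ext y
  rw [mem_conjS]
  constructor
  · rintro ⟨⟨z, hz'⟩, hz, rfl⟩
    refine ⟨⟨c⁻¹ * z * c, mem_conjS.1 hz'⟩, ?_, rfl⟩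
    rw [SetLike.mem_coe, Subgroup.mem_center_iff] at hz ⊢
    rintro ⟨v, hv⟩
    have h := congrArg Subtype.val
      (hz ⟨c * v * c⁻¹, mem_conjS.2 (by simpa [mul_assoc] using hv)⟩)
    simp only [Subgroup.coe_mul] at h
    refine Subtype.ext ?_
    simp only [Subgroup.coe_mul]
    calc v * (c⁻¹ * z * c) = c⁻¹ * (c * v * c⁻¹ * z) * c := by group
      _ = c⁻¹ * (z * (c * v * c⁻¹)) * c := by rw [h]
      _ = _ := by group
  · rintro ⟨⟨u, hu'⟩, hu, huy⟩
    have huy' : u = c⁻¹ * y * c := huy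
    refine ⟨⟨y, mem_conjS.2 (huy' ▸ hu')⟩, ?_, rfl⟩
    rw [SetLike.mem_coe, Subgroup.mem_center_iff] at hu ⊢
    rintro ⟨v, hv⟩
    have h := congrArg Subtype.val (hu ⟨c⁻¹ * v * c, mem_conjS.1 hv⟩)
    simp only [Subgroup.coe_mul, huy'] at h
    refine Subtype.ext ?_
    simp only [Subgroup.coe_mul]
    calc v * y = c * (c⁻¹ * v * c * (c⁻¹ * y * c)) * c⁻¹ := by group
      _ = c * (c⁻¹ * y * c * (c⁻¹ * v * c)) * c⁻¹ := by rw [h]
      _ = _ := by group

/-- The centres of the Sylow subgroups are the root groups. -/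
theorem center_sylow_iff (H : Subgroup (G C)) :
    (∃ c, H = conjS c (rootGrp C)) ↔
      ∃ P : Sylow 2 (G C), H = (Subgroup.center (P : Subgroup (G C))).map
        (P : Subgroup (G C)).subtype := by
  haveI := Fact.mk Nat.prime_two
  obtain ⟨U, hU⟩ := exists_sylow (C := C)
  constructor
  · rintro ⟨c, rfl⟩
    refine ⟨c • U, ?_⟩
    have e : ((c • U : Sylow 2 (G C)) : Subgroup (G C)) = conjS c (trGrp C) := by
      rw [Sylow.coe_subgroup_smul, hU]; rfl
    rw [e, center_map_conjS, center_trGrp]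
  · rintro ⟨P, rfl⟩
    obtain ⟨c, hc⟩ := MulAction.exists_smul_eq (G C) U P
    refine ⟨c, ?_⟩
    have e : (P : Subgroup (G C)) = conjS c (trGrp C) := by
      rw [← hc, Sylow.coe_subgroup_smul, hU]; rfl
    rw [e, center_map_conjS, center_trGrp]

end CfsgLib.BinaryOneClass.Unit
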