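import Cfsg.Agent.BinaryOneClass.UnitalBig
import Cfsg.Agent.SuzukiBinary.Main

/-!
# Binary coset actions of `PSU_3(q)`, `q` even, with even point stabilisers

Such a point stabiliser is the centre of a Sylow 2-subgroup.
-/

set_option autoImplicit false
set_option linter.style.haveILetI false
set_option linter.unusedSectionVars false

namespace CfsgLib.BinaryOneClass.Unit

open Matrix CfsgLib.RepBounds.Unit CfsgLib.SUThreeUnipotent CfsgLib.SUThreePresentation
  CfsgLib.SuzukiTheorem.Unital CfsgLib.DicksonPSL2 CfsgLib.DicksonPSL2.Binary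

variable {F : Type*} [Field F] [Fintype F] [CharP F 2] {C : ConjField F}

theorem orderOf_eq_two {g : G C} (h2 : g * g = 1) (h1 : g ≠ 1) : orderOf g = 2 :=
  haveI := Fact.mk Nat.prime_two
  orderOf_eq_prime (by rw [pow_two, h2]) h1

/-- The root groups depend on the point only. -/
theorem conjS_rootGrp_congr {c c' : G C} (h : img c none = img c' none) :
    conjS c (rootGrp C) = conjS c' (rootGrp C) := by
  ext y
  rw [mem_conjS_rootGrp, mem_conjS_rootGrp, h]

/-- A stabiliser with an involution contains its whole root group. -/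
theorem root_le {H : Subgroup (G C)} (S : Setup H) {g : G C} (hg : g ∈ H) (h1 : g ≠ 1)
    (h2 : g * g = 1) {c : G C} (hc : img g (img c none) = img c none) :
    conjS c (rootGrp C) ≤ H := by
  intro y hy
  rcases eq_or_ne y 1 with rfl | hy1
  · exact one_mem _
  have hgc : g ∈ conjS c (rootGrp C) := mem_conjS_rootGrp.2 ⟨h2, hc⟩
  have hsq : ∀ z, z ∈ conjS c (rootGrp C) → z * z = 1 := fun z hz => (mem_conjS_rootGrp.1 hz).1
  refine S.mem_of_commute (orderOf_eq_two h2 h1) (orderOf_eq_two (hsq y hy) hy1) ?_ hg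
  calc g * y = (y * y) * (g * y) * (g * g) := by rw [hsq y hy, h2, one_mul, mul_one]
    _ = y * (y * g * (y * g)) * g := by group
    _ = y * g := by rw [hsq _ (mul_mem hy hgc), mul_one]

/-- The root group at infinity is an intersection of stabilisers, when it lies in one. -/
theorem isInt_rootGrp {H : Subgroup (G C)} (hb : IsBin H) (hne : H ≠ ⊤) (hq : 4 ≤ C.q)
    (hZ : rootGrp C ≤ H) : IsInt H (rootGrp C) := by
  set K := ⨅ a ∈ {a : G C | rootGrp C ≤ conjS a H}, conjS a H with hKdef
  have hK : IsInt H K := ⟨_, ⟨1, by rw [Set.mem_ofPred_eq, conjS_one]; exact hZ⟩, rfl⟩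
  have hmemK : ∀ y, y ∈ K ↔ ∀ a : G C, rootGrp C ≤ conjS a H → y ∈ conjS a H := fun y => by
    simp only [hKdef, Subgroup.mem_iInf, Set.mem_ofPred_eq]
  have hZK : rootGrp C ≤ K := fun y hy => (hmemK y).2 fun a ha => ha hy
  have hnorm : ∀ v : G C, img v none = none → conjS v K ≤ K := by
    intro v hv y hy
    rw [hmemK]
    intro a ha
    have hv' : img v⁻¹ none = none := by conv_lhs => rw [← hv, img_inv_img]
    have ha' : rootGrp C ≤ conjS (v⁻¹ * a) H := by
      rw [conjS_mul, ← conjS_rootGrp_of_fix hv']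
      exact Subgroup.map_mono ha
    have h := (hmemK _).1 (mem_conjS.1 hy) _ ha'
    rw [conjS_mul, mem_conjS, inv_inv] at h
    simpa [mul_assoc] using h
  have h0 : ∀ g ∈ K, img g none = none := by
    intro g hg
    by_contra hgn
    obtain ⟨p, hp⟩ := Option.ne_none_iff_exists'.1 hgn
    have hgK : conjS g (rootGrp C) ≤ K := fun y hy => by
      simpa [mul_assoc] using mul_mem (mul_mem hg (hZK (mem_conjS.1 hy))) (inv_mem hg)
    have hall : ∀ q : Pt C, conjS (tr q * fl C) (rootGrp C) ≤ K := by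
      intro q
      have hv : img (tr q * (tr p)⁻¹) none = none := by
        rw [img_mul]
        conv_lhs => rw [← img_tr_none p, img_inv_img]
        exact img_tr_none q
      rw [conjS_rootGrp_congr (c' := tr q * (tr p)⁻¹ * g) (by
        rw [img_mul, img_mul, img_mul, img_fl_none, hp, img_tr_orig,
          show img (tr p)⁻¹ (some p) = some (orig C) by
            conv_lhs => rw [← img_tr_orig p, img_inv_img],
          img_tr_orig]), conjS_mul]
      exact le_trans (Subgroup.map_mono hgK) (hnorm _ hv)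
    have hO : conjS (fl C) (rootGrp C) ≤ K := by
      simpa [tr_orig] using hall (orig C)
    obtain ⟨q, hq1⟩ := exists_pt (C := C) (1 : F)
    refine IsInt.ne_top hne hK (eq_top_of_off hZK hO hq (hall q) ⟨q, ?_, ?_⟩)
    · rw [img_mul, img_fl_none, img_tr_orig]
    · rw [hq1]; exact one_ne_zero
  exact eq_rootGrp hb hq hK hZK h0 ▸ hK

/-- A binary stabiliser of even order containing the root group at infinity equals it. -/
theorem eq_rootGrp_of_le {H : Subgroup (G C)} (S : Setup H) (hne : H ≠ ⊤) (hq : 4 ≤ C.q)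
    (hZ : rootGrp C ≤ H) : H = rootGrp C := by
  by_cases h0 : ∀ g ∈ H, img g none = none
  · exact eq_rootGrp S.bin hq (IsInt.self H) hZ h0
  exfalso
  push Not at h0
  obtain ⟨g, hg, hgn⟩ := h0
  obtain ⟨p, hp⟩ := Option.ne_none_iff_exists'.1 hgn
  have hvn : img (tr p)⁻¹ none = none := by conv_lhs => rw [← img_tr_none p, img_inv_img]
  set H' := conjS (tr p)⁻¹ H with hH'
  have hb' : IsBin H' := CfsgLib.SuzukiBinary.isBin_map (MulAut.conj (tr p)⁻¹) S.bin
  have hne' : H' ≠ ⊤ := IsInt.ne_top hne (isInt_conjS _ H) 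
  have hZ' : rootGrp C ≤ H' := by
    rw [hH', ← conjS_rootGrp_of_fix hvn]
    exact Subgroup.map_mono hZ
  have hgH : conjS g (rootGrp C) ≤ H := fun y hy => by
    simpa [mul_assoc] using mul_mem (mul_mem hg (hZ (mem_conjS.1 hy))) (inv_mem hg)
  have hO' : conjS (fl C) (rootGrp C) ≤ H' := by
    rw [conjS_rootGrp_congr (c' := (tr p)⁻¹ * g) (by
      rw [img_mul, img_fl_none, hp]; conv_rhs => rw [← img_tr_orig p, img_inv_img]), conjS_mul]
    exact Subgroup.map_mono hgH
  obtain ⟨t, ht, hto⟩ := S.invol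
  have S' : Setup H' := ⟨hb', S.one, (tr p)⁻¹ * t * tr p, mem_conjS.2 (by
    simpa [mul_assoc] using ht), by
    rw [← hto]
    simpa using orderOf_conj' (tr p)⁻¹ t⟩
  exact not_two hb' hq hne' (fun g hg h1 h2 c hc => root_le S' hg h1 h2 hc)
    (K0 := fun c => conjS c (rootGrp C))
    (fun c => ⟨(isInt_rootGrp hb' hne' hq hZ').conj c, rfl⟩) hZ' hO'

/-- A binary stabiliser of even order is a root group. -/
theorem exists_conj_eq {H : Subgroup (G C)} (S : Setup H) (hne : H ≠ ⊤) (hq : 4 ≤ C.q) :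
    ∃ c, H = conjS c (rootGrp C) := by
  obtain ⟨z, hz, hzo⟩ := S.invol
  have hz2 : z * z = 1 := by rw [← pow_two, ← hzo, pow_orderOf_eq_one]
  have hz1 : z ≠ 1 := fun e => by rw [e, orderOf_one] at hzo; omega
  obtain ⟨x, hx⟩ := exists_fix_of_sq hz2
  obtain ⟨c, hc⟩ := exists_img_none x
  refine ⟨c, ?_⟩
  have hle : conjS c (rootGrp C) ≤ H := root_le S hz hz1 hz2 (by rw [hc]; exact hx)
  have hZ' : rootGrp C ≤ conjS c⁻¹ H := fun y hy => by
    rw [mem_conjS, inv_inv]
    exact hle (mem_conjS.2 (by simpa [mul_assoc] using hy))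
  have S' : Setup (conjS c⁻¹ H) :=
    ⟨CfsgLib.SuzukiBinary.isBin_map (MulAut.conj c⁻¹) S.bin, S.one, c⁻¹ * z * c, mem_conjS.2 (by
      simpa [mul_assoc] using hz), by
      rw [← hzo]
      simpa using orderOf_conj' c⁻¹ z⟩
  rw [← eq_rootGrp_of_le S' (IsInt.ne_top hne (isInt_conjS _ H)) hq hZ', ← conjS_mul,
    mul_inv_cancel, conjS_one]

/-- The root groups give binary actions. -/
theorem isBin_conjS_rootGrp (c : G C) : IsBin (conjS c (rootGrp C)) :=
  CfsgLib.SuzukiBinary.isBin_map (MulAut.conj c)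
    (isBin_of_absorbing (fun _ hz => rootGrp_sq hz) absorbing)

end CfsgLib.BinaryOneClass.Unit

namespace CfsgLib.BinaryOneClass

open CfsgLib.RepBounds.Unit CfsgLib.SuzukiTheorem CfsgLib.DicksonPSL2
  CfsgLib.DicksonPSL2.Binary

/-- The binary coset actions of `PSU_3(q)`, `q` even, with stabilisers of even order. -/
theorem isBin_iff_psu {F : Type*} [Field F] [Fintype F] {a : ℕ} (ha : 2 ≤ a)
    (hF : Fintype.card F = (2 ^ a) ^ 2) {X : Type*} [Group X] [Finite X]
    (e : X ≃* Cfsg.PSU 3 F (2 ^ a)) (hone : ∀ s t : X, orderOf s = 2 → orderOf t = 2 → IsConj s t)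
    {H : Subgroup X} (hne : H ≠ ⊤) (heven : Even (Nat.card H)) :
    IsBin H ↔ ∃ P : Sylow 2 X,
      H = (Subgroup.center (P : Subgroup X)).map (P : Subgroup X).subtype := by
  haveI := Fact.mk Nat.prime_two
  haveI : CharP F 2 := ringChar.of_eq (FiniteField.even_card_iff_char_two.2 (by
    rw [hF, ← pow_mul, show a * 2 = (2 * a - 1) + 1 by omega, pow_succ]; omega))
  obtain ⟨C, hC⟩ := exists_conjField (F := F) (2 ^ a) hF
  have hq : 4 ≤ C.q := hC ▸ (Nat.pow_le_pow_right (show 0 < 2 by norm_num) ha :)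
  obtain ⟨em⟩ := Unital.nonempty_modelGrp_equiv C (by omega)
  let f : X ≃* Unit.G C := (e.trans (MulEquiv.cast (M := fun n => Cfsg.PSU 3 F n) hC.symm)).trans
    (em.symm.trans (MulEquiv.subgroupCongr (Unital.rho_range C (by omega)).symm))
  constructor
  · intro hb
    set H₀ := H.map f.toMonoidHom with hH₀
    have hback : H₀.map f.symm.toMonoidHom = H := by
      rw [hH₀, Subgroup.map_map]; ext; simp
    have hne₀ : H₀ ≠ ⊤ := fun h => hne (by
      rw [← hback, h, Subgroup.map_top_of_surjective _ f.symm.surjective])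
    obtain ⟨t, ht, hto⟩ : ∃ t ∈ H, orderOf t = 2 := by
      obtain ⟨⟨t, ht⟩, hto⟩ := exists_prime_orderOf_dvd_card' 2 (even_iff_two_dvd.1 heven)
      exact ⟨t, ht, by rwa [Subgroup.orderOf_mk] at hto⟩
    have S : Setup H₀ := ⟨CfsgLib.SuzukiBinary.isBin_map f hb, fun s t hs ht => by
        have h := hone (f.symm s) (f.symm t) (by rw [MulEquiv.orderOf_eq, hs])
          (by rw [MulEquiv.orderOf_eq, ht])
        simpa using (f.toMonoidHom.map_isConj h),
      f t, ⟨t, ht, rfl⟩, by rw [MulEquiv.orderOf_eq, hto]⟩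
    obtain ⟨P, hP⟩ := (Unit.center_sylow_iff H₀).1 (Unit.exists_conj_eq S hne₀ hq)
    refine ⟨P.mapSurjective (f := f.symm.toMonoidHom) f.symm.surjective, ?_⟩
    rw [← hback, hP]
    exact CfsgLib.SuzukiBinary.map_center f.symm _
  · rintro ⟨P, hP⟩
    obtain ⟨c, hc⟩ := (Unit.center_sylow_iff (H.map f.toMonoidHom)).2
      ⟨P.mapSurjective (f := f.toMonoidHom) f.surjective, by
        rw [hP]; exact CfsgLib.SuzukiBinary.map_center f _⟩
    have h := CfsgLib.SuzukiBinary.isBin_map f.symm (Unit.isBin_conjS_rootGrp c)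
    rwa [← hc, Subgroup.map_map, show f.symm.toMonoidHom.comp f.toMonoidHom = MonoidHom.id X by
      ext; simp, Subgroup.map_id] at h

end CfsgLib.BinaryOneClass
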